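import Groth.Agent.DimFormula.Criteria
import Mathlib.AlgebraicGeometry.IdealSheaf.Functorial

/-!
# Closed subschemes: codimensions and fibres
-/

set_option autoImplicit false
set_option linter.style.haveILetI false

open AlgebraicGeometry CategoryTheory Order Topology

namespace Groth.Agent.DimFormula

universe u

variable {X Y W : Scheme.{u}} (f : X ⟶ Y) [LocallyOfFiniteType f] (j : W ⟶ X) [IsClosedImmersion j]

theorem rd_closedSub (w : W) : FibDim.rd (j ≫ f) w = FibDim.rd f (j w) := by
  have h0 : FibDim.rd j w = 0 := by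
    have h := FibDim.rd_eq_rdeg j w
    rw [VarDim.rdeg_preimmersion] at h
    exact_mod_cast h
  rw [FibDim.rd_comp, h0, add_zero]

theorem mem_range_of_specializes {w : W} {t : X} (h : j w ⤳ t) : t ∈ Set.range j :=
  h.mem_closed j.isClosedEmbedding.isClosed_range ⟨w, rfl⟩

theorem cd_closedSub (a b : W) : cd (j a) (j b) = cd a b :=
  cd_eq_of_embedding j j.isClosedEmbedding.isEmbedding fun _ h1 _ => mem_range_of_specializes j h1

theorem maximal_closedSub {η : W} (h : ∀ z, z ⤳ η → z = η) {t : X} (ht : t ∈ Set.range j) (hs : t ⤳ j η) :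
    t = j η := by
  obtain ⟨a, rfl⟩ := ht
  rw [h a (j.isClosedEmbedding.isEmbedding.isInducing.specializes_iff.1 hs)]

theorem codim_closedSub_irreducible [IsLocallyNoetherian W] {w : W} {ξ : X}
    (hξ : closure {ξ} = Set.range j) : codim w = cd ξ (j w) := by
  obtain ⟨a, rfl⟩ : ξ ∈ Set.range j := hξ ▸ subset_closure rfl
  obtain ⟨η, hη, hmax, he⟩ := exists_maximal_cd_eq_codim w
  have ha : a ⤳ η := j.isClosedEmbedding.isEmbedding.isInducing.specializes_iff.1
    (specializes_iff_mem_closure.2 (hξ.ge ⟨η, rfl⟩))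
  rw [cd_closedSub, ← he, hmax a ha]

theorem fb_closedSub_le [IsLocallyNoetherian W] (w : W) : fb (j ≫ f) w ≤ fb f (j w) := by
  obtain ⟨z, hz, hfz, -, -, he⟩ := exists_fibMax_top (j ≫ f) w
  have := rd_le_rd_add_fb f (hz.map j.continuous) hfz
  rw [rd_closedSub, rd_closedSub] at he
  omega

/-- The local dimension of the trace of the closed subscheme on the fibre. -/
theorem localDim_inter_fibre {S : Set X} (hS : Set.range j = S) (w : W) {x : X} (hw : j w = x)
    (hx : x ∈ S ∩ f ⁻¹' {f x}) :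
    FlatMor.localDim ↥(S ∩ f ⁻¹' {f x}) ⟨x, hx⟩ =
      (((FibDim.rd f x + fb (j ≫ f) w : ℕ) : ℕ∞) : WithBot ℕ∞) := by
  subst hS hw
  obtain ⟨z, ⟨a, rfl⟩, hzx, hfz, he, hmax⟩ :=
    FibDim.exists_localDim_inter_eq f j.isClosedEmbedding.isClosed_range (j w) hx.1
  rw [he]
  obtain ⟨z', hz', hfz', -, -, he'⟩ := exists_fibMax_top (j ≫ f) w
  have h1 := hmax (j z') ⟨z', rfl⟩ (hz'.map j.continuous) hfz'
  have h2 := rd_le_rd_add_fb (j ≫ f) (j.isClosedEmbedding.isEmbedding.isInducing.specializes_iff.1 hzx) hfz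
  rw [rd_closedSub, rd_closedSub] at he' h2
  rw [show FibDim.rd f (j a) = FibDim.rd f (j w) + fb (j ≫ f) w by omega]

theorem range_vanishingIdeal (S : TopologicalSpace.Closeds X) :
    Set.range (Scheme.IdealSheafData.vanishingIdeal S).subschemeι = (S : Set X) := by
  rw [Scheme.IdealSheafData.range_subschemeι, Scheme.IdealSheafData.coe_support_vanishingIdeal]

end Groth.Agent.DimFormula
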