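import Groth.Agent.DimFormula.Scheme
import Groth.Agent.FibDim.Minimal

/-!
# The dimension of the local ring of a fibre
-/

set_option autoImplicit false
set_option linter.style.haveILetI false

open AlgebraicGeometry CategoryTheory Order Topology

namespace Groth.Agent.DimFormula

universe u

theorem isUniversallyCatenary_stalk_field (k : Type u) [Field k] (pt : Spec (CommRingCat.of k)) :
    CAlg.IsUniversallyCatenary ((Spec (CommRingCat.of k)).presheaf.stalk pt) := by
  letI : Algebra k ((Spec (CommRingCat.of k)).presheaf.stalk pt) := StructureSheaf.stalkAlgebra k pt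
  haveI : IsLocalization.AtPrime ((Spec (CommRingCat.of k)).presheaf.stalk pt) pt.asIdeal :=
    StructureSheaf.IsLocalization.to_stalk (CommRingCat.of k) pt
  refine isUniversallyCatenary_of_surjective (isUniversallyCatenary_field k)
    (algebraMap k ((Spec (CommRingCat.of k)).presheaf.stalk pt)) fun z => ?_
  obtain ⟨a, s, rfl⟩ := IsLocalization.exists_mk'_eq pt.asIdeal.primeCompl z
  refine ⟨a / (s : k), ?_⟩
  rw [IsLocalization.eq_mk'_iff_mul_eq, ← map_mul]
  congr 1
  exact div_mul_cancel₀ a fun h => s.2 (h ▸ pt.asIdeal.zero_mem)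

variable {X Y : Scheme.{u}} (f : X ⟶ Y) [LocallyOfFiniteType f]

/-- The dimension of the local ring at `x` of its fibre. -/
noncomputable def fb (x : X) : ℕ := codim (f.asFiber x)

theorem isLocallyNoetherian_fiber (y : Y) : IsLocallyNoetherian (f.fiber y) :=
  LocallyOfFiniteType.isLocallyNoetherian (f.fiberToSpecResidueField y)

theorem ringKrullDim_stalk_fibre (x : X) :
    ringKrullDim ((f.fiber (f x)).presheaf.stalk (f.asFiber x)) = (fb f x : WithBot ℕ∞) :=
  haveI := isLocallyNoetherian_fiber f (f x)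
  ringKrullDim_stalk _

theorem rd_fiberToSpec (y : Y) (z : ↥(f.fiber y)) :
    FibDim.rd (Y := Spec (CommRingCat.of (Y.residueField y))) (f.fiberToSpecResidueField y) z =
      FibDim.rd f (f.fiberι y z) := by
  rw [← FibDim.deg_fiber f y z]
  have h := FibDim.rd_eq_rdeg (Y := Spec (CommRingCat.of (Y.residueField y))) (f.fiberToSpecResidueField y) z
  rw [← VarDim.tdeg_eq_rdeg (k := Y.residueField y), ← VarDim.deg_eq_tdeg (k := Y.residueField y)] at h
  exact_mod_cast h

theorem cd_fiberι (y : Y) (a b : ↥(f.fiber y)) : cd (f.fiberι y a) (f.fiberι y b) = cd a b := by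
  refine cd_eq_of_embedding (f.fiberι y) (f.fiberι y).isEmbedding fun t h1 h2 => ?_
  rw [Scheme.Hom.range_fiberι]
  have e1 := FibDim.fiber_apply_fiberι f a
  have e2 := FibDim.fiber_apply_fiberι f b
  exact eq_of_specializes_of_specializes (e2 ▸ h2.map f.continuous) (e1 ▸ h1.map f.continuous)

/-- Inside a fibre, codimension is the difference of relative degrees. -/
theorem cd_add_rd_of_fibre {η x : X} (h : η ⤳ x) (he : f η = f x) :
    cd η x + FibDim.rd f x = FibDim.rd f η := by
  haveI := isLocallyNoetherian_fiber f (f x)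
  obtain ⟨a, rfl⟩ : η ∈ Set.range (f.fiberι (f x)) := by rw [Scheme.Hom.range_fiberι]; exact he
  have hab : a ⤳ f.asFiber x := by
    rw [← FibDim.fiberι_specializes_iff, Scheme.Hom.fiberι_asFiber]; exact h
  obtain ⟨-, heq⟩ := cd_formula (Y := Spec (CommRingCat.of (Y.residueField (f x))))
    (f.fiberToSpecResidueField (f x)) hab
  have h1 := heq (isUniversallyCatenary_stalk_field _ _)
  haveI : Subsingleton ↥(Spec (CommRingCat.of (Y.residueField (f x)))) :=
    inferInstanceAs (Subsingleton (PrimeSpectrum _))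
  rw [Subsingleton.elim ((f.fiberToSpecResidueField (f x)) a)
    ((f.fiberToSpecResidueField (f x)) (f.asFiber x)), cd_self, zero_add, ← cd_fiberι,
    rd_fiberToSpec, rd_fiberToSpec, Scheme.Hom.fiberι_asFiber] at h1
  exact h1

theorem rd_le_rd_add_fb {z x : X} (h : z ⤳ x) (he : f z = f x) :
    FibDim.rd f z ≤ FibDim.rd f x + fb f x := by
  haveI := isLocallyNoetherian_fiber f (f x)
  obtain ⟨a, rfl⟩ : z ∈ Set.range (f.fiberι (f x)) := by rw [Scheme.Hom.range_fiberι]; exact he
  have h' : f.fiberι (f x) a ⤳ f.fiberι (f x) (f.asFiber x) := by rwa [Scheme.Hom.fiberι_asFiber]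
  have h2 : cd (f.fiberι (f x) a) x ≤ fb f x := by
    have := cd_le_codim ((FibDim.fiberι_specializes_iff f _ _).1 h')
    rw [← cd_fiberι, Scheme.Hom.fiberι_asFiber] at this
    exact this
  rw [← cd_add_rd_of_fibre f h he]
  omega

/-- A maximal point of the fibre realising the dimension at `x`. -/
theorem exists_fibMax_top (x : X) : ∃ z, z ⤳ x ∧ f z = f x ∧ FibDim.FibMax f z ∧
    cd z x = fb f x ∧ FibDim.rd f z = FibDim.rd f x + fb f x := by
  haveI := isLocallyNoetherian_fiber f (f x)
  obtain ⟨a, ha, hmax, he⟩ := exists_maximal_cd_eq_codim (f.asFiber x)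
  have hz : f.fiberι (f x) a ⤳ x := by
    have := ha.map (f.fiberι (f x)).continuous
    rwa [Scheme.Hom.fiberι_asFiber] at this
  have hfz : f (f.fiberι (f x) a) = f x := FibDim.fiber_apply_fiberι f a
  have hcd : cd (f.fiberι (f x) a) x = fb f x := by
    rw [fb, ← he, ← cd_fiberι, Scheme.Hom.fiberι_asFiber]
  refine ⟨_, hz, hfz, (FibDim.fibMax_fiberι_iff f a).2 hmax, hcd, ?_⟩
  rw [← cd_add_rd_of_fibre f hz hfz, hcd, add_comm]

theorem fibreDimAt_eq_add (x : X) :
    FlatMor.fibreDimAt f x = (((FibDim.rd f x + fb f x : ℕ) : ℕ∞) : WithBot ℕ∞) := by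
  obtain ⟨z, hz, hfz, -, -, he⟩ := exists_fibMax_top f x
  obtain ⟨w, hw, hfw, -, hdim⟩ := FibDim.exists_fibMax_generization f x
  have h1 := FibDim.rd_le_fibreDimAt f hz hfz
  rw [hdim, he] at h1
  rw [hdim]
  have h2 := rd_le_rd_add_fb f hw hfw
  have h1' : FibDim.rd f x + fb f x ≤ FibDim.rd f w := by exact_mod_cast h1
  rw [le_antisymm h2 h1']

theorem rd_le_of_specializes' {η x : X} (h : η ⤳ x) : FibDim.rd f η ≤ FibDim.rd f x + fb f x := by
  have := FibDim.fibreDimAt_ge_rd f h
  rw [fibreDimAt_eq_add] at this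
  exact_mod_cast this

theorem fb_eq_zero_iff (z : X) : fb f z = 0 ↔ FibDim.FibMax f z := by
  refine ⟨fun h w hw hfw => ?_, fun h => ?_⟩
  · by_contra hne
    have h1 := rd_le_rd_add_fb f hw hfw
    have h2 := FibDim.rd_lt f hw hne hfw
    omega
  · obtain ⟨w, hw, hfw, -, hcd, -⟩ := exists_fibMax_top f z
    haveI := isLocallyNoetherian_fiber f (f z)
    obtain ⟨a, rfl⟩ : w ∈ Set.range (f.fiberι (f z)) := by rw [Scheme.Hom.range_fiberι]; exact hfw
    rw [← hcd, show f.fiberι (f z) a = f.fiberι (f z) (f.asFiber z) by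
      rw [Scheme.Hom.fiberι_asFiber]; exact h _ hw hfw]
    conv_lhs => arg 2; rw [← Scheme.Hom.fiberι_asFiber f z]
    rw [cd_fiberι, cd_self]

variable [IsLocallyNoetherian Y]

/-- `dim O_x ≤ dim O_y + dim` of the fibre. -/
theorem codim_le_add (x : X) : codim x ≤ codim (f x) + fb f x := by
  haveI := LocallyOfFiniteType.isLocallyNoetherian f
  obtain ⟨η, hη, -, he⟩ := exists_maximal_cd_eq_codim x
  have h1 := (cd_formula f hη).1
  have h2 := cd_le_codim (hη.map f.continuous)
  have h3 := rd_le_of_specializes' f hη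
  omega

theorem codim_add_fb_le (x : X) :
    ∃ z, z ⤳ x ∧ f z = f x ∧ FibDim.FibMax f z ∧ codim z + fb f x ≤ codim x ∧
      FibDim.rd f z = FibDim.rd f x + fb f x := by
  haveI := LocallyOfFiniteType.isLocallyNoetherian f
  obtain ⟨z, hz, hfz, hm, hcd, he⟩ := exists_fibMax_top f x
  refine ⟨z, hz, hfz, hm, ?_, he⟩
  have := codim_mono_add hz
  omega

end Groth.Agent.DimFormula
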