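import Groth.Agent.DimFormula.Fibre

/-!
# Openness at a maximal point of a fibre bounds the codimension from below
-/

set_option autoImplicit false
set_option linter.style.haveILetI false

open AlgebraicGeometry CategoryTheory Order Topology

namespace Groth.Agent.DimFormula

universe u

/-- A local homomorphism surjective on spectra, with closed fibre reduced to a point, cannot increase
the dimension. -/
theorem dim_le_of_surjective_comap (n : ℕ) : ∀ (A B : Type u) [CommRing A] [CommRing B] [IsLocalRing A]
    [IsLocalRing B] [IsNoetherianRing A] [IsNoetherianRing B] (φ : A →+* B),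
    Function.Surjective (PrimeSpectrum.comap φ) →
    (∀ P : PrimeSpectrum B, PrimeSpectrum.comap φ P = IsLocalRing.closedPoint A → P = IsLocalRing.closedPoint B) →
    ringKrullDim B ≤ n → ringKrullDim A ≤ n := by
  induction n with
  | zero =>
    intro A B _ _ _ _ _ _ φ hsurj _ hB
    refine Order.krullDim_nonpos_iff_forall_isMax.2 fun a b hab => ?_
    obtain ⟨P, rfl⟩ := hsurj a
    obtain ⟨P', rfl⟩ := hsurj b
    have hmax : ∀ R : PrimeSpectrum B, R = IsLocalRing.closedPoint B := fun R =>
      le_antisymm (IsLocalRing.le_maximalIdeal R.isPrime.ne_top)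
        (Order.krullDim_nonpos_iff_forall_isMax.1 (by exact_mod_cast hB) R
          (IsLocalRing.le_maximalIdeal R.isPrime.ne_top))
    rw [hmax P, hmax P']
  | succ n ih =>
    intro A B _ _ _ _ _ _ φ hsurj hclosed hB
    by_cases hmin : (IsLocalRing.maximalIdeal B) ∈ minimalPrimes B
    · refine le_trans (ih A B φ hsurj hclosed ?_) (by exact_mod_cast Nat.le_succ n)
      refine le_trans (Order.krullDim_nonpos_iff_forall_isMax.2 fun a b _ => ?_) (by exact_mod_cast Nat.zero_le n)
      exact (IsLocalRing.le_maximalIdeal b.isPrime.ne_top).trans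
        (hmin.2 ⟨a.isPrime, bot_le⟩ (IsLocalRing.le_maximalIdeal a.isPrime.ne_top))
    have hfin : (minimalPrimes B).Finite := minimalPrimes.finite_of_isNoetherianRing B
    obtain ⟨a, ha, hna⟩ : ∃ a ∈ IsLocalRing.maximalIdeal A, ∀ M ∈ minimalPrimes B, a ∉ M.comap φ := by
      by_contra hne
      push Not at hne
      have hcov : (IsLocalRing.maximalIdeal A : Set A) ⊆ ⋃ M ∈ hfin.toFinset, (M.comap φ : Set A) := fun a ha => by
        obtain ⟨M, hM, haM⟩ := hne a ha
        exact Set.mem_iUnion₂.2 ⟨M, hfin.mem_toFinset.2 hM, haM⟩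
      obtain ⟨M, hM, hle⟩ := (Ideal.subset_union_prime (f := fun M : Ideal B => M.comap φ) ⊤ ⊤ fun M hM _ _ =>
        haveI := (hfin.mem_toFinset.1 hM).1.1
        Ideal.IsPrime.comap φ).1 (by simpa using hcov)
      have hM' := hfin.mem_toFinset.1 hM
      haveI := hM'.1.1
      refine hmin ?_
      have := hclosed ⟨M, inferInstance⟩ (PrimeSpectrum.ext
        (le_antisymm (IsLocalRing.le_maximalIdeal (Ideal.IsPrime.comap φ).ne_top) hle))
      rwa [show IsLocalRing.maximalIdeal B = M from (congrArg PrimeSpectrum.asIdeal this).symm]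
    let I : Ideal A := Ideal.span {a}
    let J : Ideal B := Ideal.span {φ a}
    have hJ : J ≠ ⊤ := by
      intro htop
      obtain ⟨P, hP⟩ := hsurj (IsLocalRing.closedPoint A)
      have h1 : φ a ∈ P.asIdeal := (congrArg PrimeSpectrum.asIdeal hP).ge ha
      exact P.isPrime.ne_top (top_le_iff.1 (htop.ge.trans (Ideal.span_le.2 (Set.singleton_subset_iff.2 h1))))
    have hI : I ≠ ⊤ := ne_top_of_le_ne_top (IsLocalRing.maximalIdeal.isMaximal A).ne_top
      (Ideal.span_le.2 (Set.singleton_subset_iff.2 ha))
    haveI := Ideal.Quotient.nontrivial_iff.2 hI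
    haveI := Ideal.Quotient.nontrivial_iff.2 hJ
    haveI : IsLocalRing (A ⧸ I) := IsLocalRing.of_surjective' _ Ideal.Quotient.mk_surjective
    haveI : IsLocalRing (B ⧸ J) := IsLocalRing.of_surjective' _ Ideal.Quotient.mk_surjective
    let ψ : A ⧸ I →+* B ⧸ J := Ideal.quotientMap J φ
      (Ideal.span_le.2 (Set.singleton_subset_iff.2 (Ideal.mem_span_singleton_self (φ a))))
    have hinjA := PrimeSpectrum.comap_injective_of_surjective (Ideal.Quotient.mk I) Ideal.Quotient.mk_surjective
    have hinjB := PrimeSpectrum.comap_injective_of_surjective (Ideal.Quotient.mk J) Ideal.Quotient.mk_surjective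
    have hcomm : ∀ R, PrimeSpectrum.comap (Ideal.Quotient.mk I) (PrimeSpectrum.comap ψ R) =
        PrimeSpectrum.comap φ (PrimeSpectrum.comap (Ideal.Quotient.mk J) R) := fun R => rfl
    have hcl : ∀ (R : Type u) [CommRing R] [IsLocalRing R] (K : Ideal R) [IsLocalRing (R ⧸ K)],
        PrimeSpectrum.comap (Ideal.Quotient.mk K) (IsLocalRing.closedPoint (R ⧸ K)) = IsLocalRing.closedPoint R :=
      fun R _ _ K _ => PrimeSpectrum.ext (IsLocalRing.eq_maximalIdeal
        (Ideal.comap_isMaximal_of_surjective (Ideal.Quotient.mk K) Ideal.Quotient.mk_surjective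
          (K := IsLocalRing.maximalIdeal (R ⧸ K))))
    have h1 : ringKrullDim (A ⧸ I) ≤ n := by
      refine ih (A ⧸ I) (B ⧸ J) ψ (fun p => ?_) (fun R hR => hinjB ?_) ?_
      · obtain ⟨P, hP⟩ := hsurj (PrimeSpectrum.comap (Ideal.Quotient.mk I) p)
        obtain ⟨R, rfl⟩ : P ∈ Set.range (PrimeSpectrum.comap (Ideal.Quotient.mk J)) := by
          rw [_root_.range_comap_of_surjective _ _ Ideal.Quotient.mk_surjective, Ideal.mk_ker]
          refine Ideal.span_le.2 (Set.singleton_subset_iff.2 ?_)
          refine (congrArg PrimeSpectrum.asIdeal hP).ge ?_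
          show Ideal.Quotient.mk I a ∈ p.asIdeal
          rw [Ideal.Quotient.eq_zero_iff_mem.2 (Ideal.mem_span_singleton_self a)]
          exact zero_mem _
        exact ⟨R, hinjA ((hcomm R).trans hP)⟩
      · rw [hcl B J]
        exact hclosed _ (by rw [← hcomm, hR, hcl A I])
      · rw [ringKrullDim_quotient]
        refine iSup_le fun l => ?_
        obtain ⟨M, hM, hMle⟩ := Ideal.exists_minimalPrimes_le (J := l.head.1.asIdeal) bot_le
        let M' : PrimeSpectrum B := ⟨M, hM.1.1⟩
        have hlt : M' < l.head.1 := lt_of_le_of_ne hMle fun h => hna M hM (by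
          have : φ a ∈ l.head.1.asIdeal := l.head.2 (Ideal.mem_span_singleton_self (φ a))
          rwa [← h] at this)
        have := LTSeries.length_le_krullDim ((l.map Subtype.val fun _ _ h => h).cons M' hlt)
        rw [RelSeries.cons_length] at this
        have h2 := this.trans hB
        rw [show (l.map Subtype.val fun _ _ h => h).length = l.length from rfl] at h2
        have : l.length + 1 ≤ n + 1 := by exact_mod_cast h2
        exact_mod_cast (show l.length ≤ n by omega)
    have h2 := ringKrullDim_le_ringKrullDim_quotient_add_card ({a} : Finset A)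
      (by simpa [IsLocalRing.ringJacobson_eq_maximalIdeal] using ha)
    rw [Finset.coe_singleton, Finset.card_singleton] at h2
    refine h2.trans ?_
    push_cast
    exact add_le_add h1 le_rfl

variable {X Y : Scheme.{u}} (f : X ⟶ Y) [LocallyOfFiniteType f] [IsLocallyNoetherian Y]

theorem codim_le_of_isOpenAt {z : X} (hz : FibDim.FibMax f z) (h : EGA43.IsOpenAt f.base z) :
    codim (f z) ≤ codim z := by
  haveI := LocallyOfFiniteType.isLocallyNoetherian f
  have hcomm : ∀ P, Y.fromSpecStalk (f z) (PrimeSpectrum.comap (f.stalkMap z).hom P) =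
      f (X.fromSpecStalk z P) := fun P => by
    show (Spec.map (f.stalkMap z) ≫ Y.fromSpecStalk (f z)) P = _
    rw [Scheme.SpecMap_stalkMap_fromSpecStalk]
    rfl
  have hsp : ∀ P, X.fromSpecStalk z P ⤳ z := fun P => by
    have : X.fromSpecStalk z P ∈ Set.range (X.fromSpecStalk z) := ⟨P, rfl⟩
    rwa [Scheme.range_fromSpecStalk] at this
  have hle := dim_le_of_surjective_comap (codim z) (Y.presheaf.stalk (f z)) (X.presheaf.stalk z)
    (f.stalkMap z).hom (fun p => ?_) (fun P hP => ?_) (ringKrullDim_stalk z).le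
  · rw [ringKrullDim_stalk] at hle
    exact_mod_cast hle
  · have hp : Y.fromSpecStalk (f z) p ⤳ f z := by
      have : Y.fromSpecStalk (f z) p ∈ Set.range (Y.fromSpecStalk (f z)) := ⟨p, rfl⟩
      rwa [Scheme.range_fromSpecStalk] at this
    obtain ⟨ζ, hζ, hfζ⟩ := FibDim.exists_generization_of_isOpenAt f h hp
    obtain ⟨P, rfl⟩ := fromSpecStalk_range_of_specializes hζ
    exact ⟨P, (Y.fromSpecStalk (f z)).isEmbedding.injective ((hcomm P).trans hfζ)⟩
  · refine (X.fromSpecStalk z).isEmbedding.injective ((hz _ (hsp P) ?_).trans Scheme.fromSpecStalk_closedPoint.symm)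
    rw [← hcomm, hP]
    exact Scheme.fromSpecStalk_closedPoint

end Groth.Agent.DimFormula
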