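import Groth.Agent.DimFormula.Criteria

/-!
# Quotients of local rings by primes
-/

set_option autoImplicit false
set_option linter.style.haveILetI false

open AlgebraicGeometry CategoryTheory Order Topology

namespace Groth.Agent.DimFormula

universe u

variable {X : Scheme.{u}}

theorem fromSpecStalk_specializes (x : X) (a : PrimeSpectrum (X.presheaf.stalk x)) :
    X.fromSpecStalk x a ⤳ x := by
  have : X.fromSpecStalk x a ∈ Set.range (X.fromSpecStalk x) := ⟨a, rfl⟩
  rwa [Scheme.range_fromSpecStalk] at this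

theorem ringKrullDim_stalk_quotient [IsLocallyNoetherian X] (x : X) (a : PrimeSpectrum (X.presheaf.stalk x)) :
    ringKrullDim (X.presheaf.stalk x ⧸ a.asIdeal) = (cd (X.fromSpecStalk x a) x : WithBot ℕ∞) := by
  let R : Type u := X.presheaf.stalk x
  let c : PrimeSpectrum R → X := X.fromSpecStalk x
  have hc : IsEmbedding c := (X.fromSpecStalk x).isEmbedding
  let m : PrimeSpectrum R := IsLocalRing.closedPoint R
  have hm : c m = x := Scheme.fromSpecStalk_closedPoint
  have h : a ≤ m := IsLocalRing.le_maximalIdeal a.isPrime.ne_top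
  have h2 := cd_spec c hc h fun t _ ht => fromSpecStalk_range_of_specializes (hm ▸ ht)
  rw [hm] at h2
  rw [← coe_cd (fromSpecStalk_specializes x a), h2, ← VarDim.coheight_eq_ringKrullDim_quotient,
    height_eq_krullDim_Iic, coheight_eq_krullDim_Ici]
  exact Order.krullDim_eq_of_orderIso ⟨⟨fun t => ⟨⟨t.1, t.2⟩, (IsLocalRing.le_maximalIdeal t.1.isPrime.ne_top : t.1 ≤ m)⟩,
      fun t => ⟨t.1.1, t.1.2⟩, fun _ => rfl, fun _ => rfl⟩, Iff.rfl⟩

theorem maximal_of_minimalPrime (x : X) {a : PrimeSpectrum (X.presheaf.stalk x)}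
    (ha : a.asIdeal ∈ minimalPrimes (X.presheaf.stalk x)) :
    ∀ z, z ⤳ X.fromSpecStalk x a → z = X.fromSpecStalk x a := fun z hz => by
  obtain ⟨(b : PrimeSpectrum (X.presheaf.stalk x)), rfl⟩ :=
    fromSpecStalk_range_of_specializes (hz.trans (fromSpecStalk_specializes x a))
  have hba : b ≤ a := (PrimeSpectrum.le_iff_specializes b a).2
    ((X.fromSpecStalk x).isEmbedding.isInducing.specializes_iff.1 hz)
  exact congrArg (fun t : PrimeSpectrum (X.presheaf.stalk x) => X.fromSpecStalk x t)
    (le_antisymm hba (ha.2 ⟨b.isPrime, bot_le⟩ hba : a ≤ b))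

theorem fromSpecStalk_comm {Y : Scheme.{u}} (f : X ⟶ Y) (x : X) (a : PrimeSpectrum (X.presheaf.stalk x)) :
    Y.fromSpecStalk (f x) (PrimeSpectrum.comap (f.stalkMap x).hom a) = f (X.fromSpecStalk x a) := by
  show (Spec.map (f.stalkMap x) ≫ Y.fromSpecStalk (f x)) a = _
  rw [Scheme.SpecMap_stalkMap_fromSpecStalk]
  rfl

end Groth.Agent.DimFormula
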