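import Groth.Agent.DimFormula.Trdeg

/-!
# Universally catenary rings and localisation
-/

set_option autoImplicit false
set_option linter.style.haveILetI false

open Order

namespace Groth.Agent.DimFormula

universe u

theorem isCatenary_of_embedding {T S : Type u} [CommRing T] [CommRing S] (hT : CAlg.IsCatenary T)
    (c : PrimeSpectrum S → PrimeSpectrum T) (hle : ∀ a b, c a ≤ c b ↔ a ≤ b)
    (hconv : ∀ a b x, c a ≤ x → x ≤ c b → x ∈ Set.range c) : CAlg.IsCatenary S := by
  have hmono : StrictMono c := fun a b hab =>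
    lt_of_le_not_ge ((hle a b).2 hab.le) fun h => hab.not_ge ((hle b a).1 h)
  have hcov : ∀ a b, a ⋖ b → c a ⋖ c b := fun a b hab => by
    refine ⟨hmono hab.lt, fun z hz hz' => ?_⟩
    obtain ⟨w, rfl⟩ := hconv a b z hz.le hz'.le
    exact hab.2 (lt_of_le_not_ge ((hle _ _).1 hz.le) fun h => hz.not_ge ((hle _ _).2 h))
      (lt_of_le_not_ge ((hle _ _).1 hz'.le) fun h => hz'.not_ge ((hle _ _).2 h))
  refine ⟨fun p q hpq => ?_, fun s t h1 h2 hs ht => ?_⟩
  · obtain ⟨n, hn⟩ := hT.1 (c p) (c q) ((hle _ _).2 hpq)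
    exact ⟨n, fun s h1 h2 => hn (s.map c hmono) (congrArg c h1) (congrArg c h2)⟩
  · exact hT.2 (s.map c hmono) (t.map c hmono) (congrArg c h1) (congrArg c h2)
      (fun i => hcov _ _ (hs i)) (fun i => hcov _ _ (ht i))

theorem isUniversallyCatenary_localization {R : Type u} [CommRing R] (hR : CAlg.IsUniversallyCatenary R)
    (M : Submonoid R) (R' : Type u) [CommRing R'] [Algebra R R'] [IsLocalization M R'] :
    CAlg.IsUniversallyCatenary R' := by
  haveI := hR.1
  refine ⟨IsLocalization.isNoetherianRing M R' ‹_›, fun S _ _ hS => ?_⟩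
  obtain ⟨m, π, hπ⟩ := Algebra.FiniteType.iff_quotient_mvPolynomial''.1 hS
  let T := MvPolynomial (Fin m) R
  let T' := MvPolynomial (Fin m) R'
  letI : Algebra T T' := MvPolynomial.algebraMvPolynomial
  haveI : IsLocalization (M.map MvPolynomial.C) T' := MvPolynomial.isLocalization _ _
  let c : PrimeSpectrum S → PrimeSpectrum T := fun a =>
    PrimeSpectrum.comap (algebraMap T T') (PrimeSpectrum.comap π.toRingHom a)
  have hle : ∀ a b, c a ≤ c b ↔ a ≤ b := fun a b => by
    refine ⟨fun hh => ?_, fun hh => Ideal.comap_mono (Ideal.comap_mono hh)⟩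
    have h1 := Ideal.map_mono (f := algebraMap T T') (hh : (c a).asIdeal ≤ (c b).asIdeal)
    exact (Ideal.comap_le_comap_iff_of_surjective π.toRingHom hπ _ _).1
      ((IsLocalization.map_under (M.map MvPolynomial.C) T' _).ge.trans
        (h1.trans (IsLocalization.map_under (M.map MvPolynomial.C) T' _).le))
  refine isCatenary_of_embedding (hR.2 T inferInstance) c hle fun a b x hax hxb => ?_
  obtain ⟨y, rfl⟩ : x ∈ Set.range (PrimeSpectrum.comap (algebraMap T T')) := by
    rw [PrimeSpectrum.localization_comap_range T' (M.map MvPolynomial.C)]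
    refine Set.disjoint_left.2 fun s hs hsx => ?_
    have hb : s ∈ (c b).asIdeal := hxb hsx
    exact (PrimeSpectrum.comap π.toRingHom b).isPrime.ne_top (Ideal.eq_top_of_isUnit_mem _ hb
      (IsLocalization.map_units T' ⟨s, hs⟩))
  have hay : PrimeSpectrum.comap π.toRingHom a ≤ y := by
    have h1 := Ideal.map_mono (f := algebraMap T T') (hax : (c a).asIdeal ≤ _)
    exact (IsLocalization.map_under (M.map MvPolynomial.C) T' _).ge.trans
      (h1.trans (IsLocalization.map_under (M.map MvPolynomial.C) T' _).le)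
  obtain ⟨z, hz⟩ : y ∈ Set.range (PrimeSpectrum.comap π.toRingHom) := by
    rw [_root_.range_comap_of_surjective _ _ hπ]
    exact (Ideal.ker_le_comap π.toRingHom).trans hay
  exact ⟨z, congrArg (PrimeSpectrum.comap (algebraMap T T')) hz⟩

end Groth.Agent.DimFormula
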