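import Groth.Agent.DimFormula.Codim
import Groth.Agent.DimFormula.Catenary
import Groth.Agent.FibDim.Comp
import Groth.Agent.SchTop.Closed

/-!
# The dimension inequality for morphisms locally of finite type
-/

set_option autoImplicit false
set_option linter.style.haveILetI false

open AlgebraicGeometry CategoryTheory Order Topology

namespace Groth.Agent.DimFormula

universe u

section Alg

variable {A B : Type u} [CommRing A] [CommRing B] [Algebra A B] [Algebra.FiniteType A B]

theorem fd_base_quotient {A' : Type u} [CommRing A'] [Algebra A A'] [Algebra A' B] [IsScalarTower A A' B]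
    [Algebra.FiniteType A' B] (h : Function.Surjective (algebraMap A A')) (P : Ideal B) [P.IsPrime] :
    fd A' P = fd A P := by
  have hu : P.under A = (P.under A').comap (algebraMap A A') := by
    rw [Ideal.under, Ideal.under, Ideal.comap_comap, ← IsScalarTower.algebraMap_eq]
  have key : ∀ {n : ℕ} (t : Fin n → B), FibDim.IndepMod (A := A') t P ↔ FibDim.IndepMod (A := A) t P := fun t => by
    constructor
    · intro ht G hG
      have h1 := MvPolynomial.mem_map_C_iff.1 (ht (MvPolynomial.map (algebraMap A A') G)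
        (by rwa [MvPolynomial.aeval_map_algebraMap]))
      rw [MvPolynomial.mem_map_C_iff, hu]
      intro d
      have := h1 d
      rwa [MvPolynomial.coeff_map] at this
    · intro ht G' hG'
      obtain ⟨G, rfl⟩ := MvPolynomial.map_surjective _ h G'
      rw [MvPolynomial.aeval_map_algebraMap] at hG'
      have h1 := MvPolynomial.mem_map_C_iff.1 (ht G hG')
      rw [MvPolynomial.mem_map_C_iff]
      intro d
      rw [MvPolynomial.coeff_map]
      have := h1 d
      rwa [hu] at this
  exact eq_of_forall_le_iff fun n => by rw [le_fd_iff, le_fd_iff]; simp only [key]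

theorem isUniversallyCatenary_of_surjective {R R' : Type u} [CommRing R] [CommRing R']
    (hR : CAlg.IsUniversallyCatenary R) (φ : R →+* R') (hφ : Function.Surjective φ) :
    CAlg.IsUniversallyCatenary R' := by
  haveI := hR.1
  refine ⟨isNoetherianRing_of_surjective R R' φ hφ, fun S _ _ hS => ?_⟩
  letI := φ.toAlgebra
  letI : Algebra R S := ((algebraMap R' S).comp φ).toAlgebra
  haveI : IsScalarTower R R' S := IsScalarTower.of_algebraMap_eq fun _ => rfl
  haveI : Algebra.FiniteType R R' := Algebra.FiniteType.of_surjective (Algebra.ofId R R') hφ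
  exact hR.2 S (Algebra.FiniteType.trans (S := R') inferInstance hS)

theorem isUniversallyCatenary_field (k : Type u) [Field k] : CAlg.IsUniversallyCatenary k := by
  refine ⟨inferInstance, fun S _ _ hS => ⟨fun p q _ => ?_, fun s t h1 h2 hs ht => ?_⟩⟩
  · obtain ⟨n, hn⟩ := ENat.ne_top_iff_exists.1 (VarDim.coheight_ne_top k p)
    refine ⟨n, fun l hl _ => ?_⟩
    have := length_le_coheight (p := l) (x := p) hl.ge
    rw [← hn] at this
    exact_mod_cast this
  · have e1 := VarDim.coheight_head_eq k hs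
    have e2 := VarDim.coheight_head_eq k ht
    obtain ⟨n, hn⟩ := ENat.ne_top_iff_exists.1 (VarDim.coheight_ne_top k s.last)
    rw [h1, e2, ← h2, ← hn] at e1
    have : n + t.length = n + s.length := by exact_mod_cast e1
    omega

theorem localRingHom_surjective {R R' : Type u} [CommRing R] [CommRing R'] (μ : R →+* R')
    (hμ : Function.Surjective μ) (I : Ideal R) [I.IsPrime] (J : Ideal R') [J.IsPrime] (hc : I = J.comap μ) :
    Function.Surjective (Localization.localRingHom I J μ hc) := fun z => by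
  obtain ⟨a, s, rfl⟩ := IsLocalization.exists_mk'_eq J.primeCompl z
  obtain ⟨s, hs⟩ := s
  obtain ⟨a₀, rfl⟩ := hμ a
  obtain ⟨s₀, rfl⟩ := hμ s
  have hs₀ : s₀ ∈ I.primeCompl := fun hmem => hs (by rw [hc] at hmem; exact hmem)
  exact ⟨IsLocalization.mk' _ a₀ ⟨s₀, hs₀⟩, Localization.localRingHom_mk' I J μ hc a₀ ⟨s₀, hs₀⟩⟩

end Alg

variable {X Y : Scheme.{u}} (f : X ⟶ Y) [LocallyOfFiniteType f]

theorem rd_eq_fd {V : Y.Opens} (hV : IsAffineOpen V) {U : X.Opens} (hU : IsAffineOpen U)
    (hUV : U ≤ f ⁻¹ᵁ V) (P : PrimeSpectrum Γ(X, U)) :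
    letI : Algebra Γ(Y, V) Γ(X, U) := (f.appLE V U hUV).hom.toAlgebra
    FibDim.rd f (hU.fromSpec P) = fd Γ(Y, V) P.asIdeal := by
  letI : Algebra Γ(Y, V) Γ(X, U) := (f.appLE V U hUV).hom.toAlgebra
  haveI : Algebra.FiniteType Γ(Y, V) Γ(X, U) := f.finiteType_appLE hV hU hUV
  exact eq_of_forall_le_iff fun n => by rw [FibDim.le_rd_iff f hV hU hUV, le_fd_iff]

theorem cd_chart {U : X.Opens} (hU : IsAffineOpen U) [IsLocallyNoetherian X] {Q P : PrimeSpectrum Γ(X, U)}
    (h : Q ≤ P) :
    (height (⟨P, h⟩ : ↥(Set.Ici Q))) = (cd (hU.fromSpec Q) (hU.fromSpec P) : ℕ∞) := by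
  apply WithBot.coe_injective
  have hsp : hU.fromSpec Q ⤳ hU.fromSpec P := (VarDim.fromSpec_specializes_iff hU Q P).2 h
  refine ((cd_spec (fun R : PrimeSpectrum Γ(X, U) => hU.fromSpec R) hU.fromSpec.isOpenEmbedding.isEmbedding h
    fun t _ ht => ?_).symm.trans (coe_cd hsp))
  exact VarDim.exists_fromSpec_eq hU (ht.mem_open U.isOpen (VarDim.fromSpec_mem hU P)) |>.imp fun _ => id

/-- The dimension inequality and the dimension formula, on schemes. -/
theorem cd_formula [IsLocallyNoetherian Y] {η x : X} (h : η ⤳ x) :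
    haveI := LocallyOfFiniteType.isLocallyNoetherian f
    cd η x + FibDim.rd f x ≤ cd (f η) (f x) + FibDim.rd f η ∧
      (CAlg.IsUniversallyCatenary (Y.presheaf.stalk (f x)) →
        cd η x + FibDim.rd f x = cd (f η) (f x) + FibDim.rd f η) := by
  haveI := LocallyOfFiniteType.isLocallyNoetherian f
  obtain ⟨V, hV, hxV, -⟩ := exists_isAffineOpen_mem_and_subset (x := f x) (U := ⊤) trivial
  obtain ⟨U, hU, hxU, hUV⟩ := exists_isAffineOpen_mem_and_subset (x := x) (U := f ⁻¹ᵁ V) hxV
  letI : Algebra Γ(Y, V) Γ(X, U) := (f.appLE V U hUV).hom.toAlgebra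
  haveI : Algebra.FiniteType Γ(Y, V) Γ(X, U) := f.finiteType_appLE hV hU hUV
  haveI : IsNoetherianRing Γ(Y, V) := IsLocallyNoetherian.component_noetherian ⟨V, hV⟩
  obtain ⟨P, rfl⟩ := VarDim.exists_fromSpec_eq hU hxU
  obtain ⟨Q, rfl⟩ := VarDim.exists_fromSpec_eq hU (h.mem_open U.isOpen hxU)
  have hQP : Q ≤ P := (VarDim.fromSpec_specializes_iff hU Q P).1 h
  let q : PrimeSpectrum Γ(Y, V) := PrimeSpectrum.comap (algebraMap Γ(Y, V) Γ(X, U)) Q
  let p : PrimeSpectrum Γ(Y, V) := PrimeSpectrum.comap (algebraMap Γ(Y, V) Γ(X, U)) P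
  have hqp : q ≤ p := Ideal.comap_mono hQP
  let A' := Γ(Y, V) ⧸ q.asIdeal
  let B' := Γ(X, U) ⧸ Q.asIdeal
  letI : Algebra A' B' := (Ideal.quotientMap Q.asIdeal (algebraMap Γ(Y, V) Γ(X, U)) le_rfl).toAlgebra
  haveI : IsScalarTower Γ(Y, V) A' B' := IsScalarTower.of_algebraMap_eq fun _ => rfl
  haveI : Algebra.FiniteType A' B' := Algebra.FiniteType.of_restrictScalars_finiteType Γ(Y, V) A' B'
  haveI : FaithfulSMul A' B' := (faithfulSMul_iff_algebraMap_injective _ _).2 Ideal.quotientMap_injective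
  let π : Γ(X, U) →ₐ[Γ(Y, V)] B' := Ideal.Quotient.mkₐ Γ(Y, V) Q.asIdeal
  let P' : PrimeSpectrum B' := ⟨P.asIdeal.map π.toRingHom,
    Ideal.map_isPrime_of_surjective Ideal.Quotient.mk_surjective (Ideal.mk_ker.le.trans hQP)⟩
  have hP' : PrimeSpectrum.comap π.toRingHom P' = P :=
    PrimeSpectrum.ext ((Ideal.comap_map_of_surjective π.toRingHom Ideal.Quotient.mk_surjective _).trans
      (sup_eq_left.2 (Ideal.mk_ker.le.trans hQP)))
  have hbot : PrimeSpectrum.comap π.toRingHom ⟨⊥, Ideal.isPrime_bot⟩ = Q :=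
    PrimeSpectrum.ext ((RingHom.ker_eq_comap_bot _).symm.trans Ideal.mk_ker)
  obtain ⟨h1, h2⟩ := dimension_formula A' P'
  haveI hPp : P'.asIdeal.IsPrime := P'.isPrime
  haveI : (⊥ : Ideal B').IsPrime := Ideal.isPrime_bot
  have hfP : fd A' P'.asIdeal = FibDim.rd f (hU.fromSpec P) := by
    rw [fd_base_quotient (A := Γ(Y, V)) Ideal.Quotient.mk_surjective, rd_eq_fd f hV hU hUV P,
      ← fd_comap_of_surjective Γ(Y, V) π Ideal.Quotient.mk_surjective P'.asIdeal]
    congr 1
    exact congrArg PrimeSpectrum.asIdeal hP'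
  have hfQ : fd A' (⊥ : Ideal B') = FibDim.rd f (hU.fromSpec Q) := by
    rw [fd_base_quotient (A := Γ(Y, V)) Ideal.Quotient.mk_surjective, rd_eq_fd f hV hU hUV Q,
      ← fd_comap_of_surjective Γ(Y, V) π Ideal.Quotient.mk_surjective (⊥ : Ideal B')]
    congr 1
    exact congrArg PrimeSpectrum.asIdeal hbot
  have hhP : height P' = (cd (hU.fromSpec Q) (hU.fromSpec P) : ℕ∞) := by
    rw [← cd_chart hU hQP, ← height_Ici_comap π.toRingHom Ideal.Quotient.mk_surjective Q Ideal.mk_ker P'
      (by rw [hP']; exact hQP)]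
    congr 1
    exact Subtype.ext hP'
  let μ : Γ(Y, V) →+* A' := Ideal.Quotient.mk q.asIdeal
  let p' : PrimeSpectrum A' := PrimeSpectrum.comap (algebraMap A' B') P'
  have hp' : PrimeSpectrum.comap μ p' = p := by
    show PrimeSpectrum.comap μ (PrimeSpectrum.comap (algebraMap A' B') P') = _
    rw [← PrimeSpectrum.comap_comp_apply]
    exact ((PrimeSpectrum.comap_comp_apply (algebraMap Γ(Y, V) Γ(X, U)) π.toRingHom P').trans
      (congrArg (PrimeSpectrum.comap (algebraMap Γ(Y, V) Γ(X, U))) hP'))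
  have hhp : height p' = (cd (f (hU.fromSpec Q)) (f (hU.fromSpec P)) : ℕ∞) := by
    rw [FibDim.fromSpec_comm f hV hU hUV, FibDim.fromSpec_comm f hV hU hUV]
    show height p' = (cd (hV.fromSpec q) (hV.fromSpec p) : ℕ∞)
    rw [← cd_chart hV hqp, ← height_Ici_comap μ Ideal.Quotient.mk_surjective q Ideal.mk_ker p'
      (by rw [hp']; exact hqp)]
    congr 1
    exact Subtype.ext hp'
  rw [hhP, hfP, hfQ, show PrimeSpectrum.comap (algebraMap A' B') P' = p' from rfl, hhp] at h1 h2
  refine ⟨by exact_mod_cast h1, fun hcat => ?_⟩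
  refine (by exact_mod_cast · : _ → _) (h2 ?_)
  -- the local ring of the closed image
  have hcat' : CAlg.IsUniversallyCatenary (Localization.AtPrime p.asIdeal) := by
    have hy : f (hU.fromSpec P) = hV.fromSpec p := FibDim.fromSpec_comm f hV hU hUV P
    obtain ⟨e⟩ := SchTop.nonempty_stalk_equiv hV hxV
    have hpr : (hV.primeIdealOf ⟨f (hU.fromSpec P), hxV⟩) = p :=
      hV.fromSpec.isOpenEmbedding.injective ((hV.fromSpec_primeIdealOf _).trans hy)
    exact hpr ▸ isUniversallyCatenary_of_surjective hcat e.toRingHom e.surjective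
  have hc : p.asIdeal = (P'.asIdeal.under A').comap μ := (congrArg PrimeSpectrum.asIdeal hp').symm
  exact isUniversallyCatenary_of_surjective hcat' (Localization.localRingHom p.asIdeal (P'.asIdeal.under A') μ hc)
    (localRingHom_surjective μ Ideal.Quotient.mk_surjective _ _ hc)

end Groth.Agent.DimFormula
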