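import Groth.Agent.DimFormula.ClosedSub
import Groth.Agent.RegLoc6.Basic
import Mathlib.RingTheory.PrincipalIdealDomainOfPrime
import Mathlib.RingTheory.Flat.TorsionFree
import Mathlib.AlgebraicGeometry.Morphisms.Flat

/-!
# Flatness over regular bases of dimension at most one
-/

set_option autoImplicit false
set_option linter.style.haveILetI false

open AlgebraicGeometry CategoryTheory

namespace Groth.Agent.DimFormula

universe u

theorem isPrincipalIdealRing_of_regular_dim_le_one {R : Type u} [CommRing R] [IsRegularLocalRing R]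
    (h : ringKrullDim R ≤ 1) : IsPrincipalIdealRing R := by
  haveI := RegLoc6.isDomain_of_isRegularLocalRing R
  haveI : Ring.KrullDimLE 1 R := Ring.krullDimLE_iff.2 h
  have hs : ((IsLocalRing.maximalIdeal R).spanFinrank : WithBot ℕ∞) ≤ 1 :=
    IsRegularLocalRing.spanFinrank_maximalIdeal (R := R) ▸ h
  have hs' : (IsLocalRing.maximalIdeal R).spanFinrank ≤ 1 := by exact_mod_cast hs
  have hm : (IsLocalRing.maximalIdeal R).IsPrincipal := by
    rcases Nat.le_one_iff_eq_zero_or_eq_one.1 hs' with h0 | h1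
    · rw [(Submodule.spanFinrank_eq_zero_iff_eq_bot (IsNoetherian.noetherian _)).1 h0]
      infer_instance
    · exact ((Submodule.spanFinrank_eq_one_iff _).1 h1).1
  refine IsPrincipalIdealRing.of_prime fun P hP => ?_
  by_cases h0 : P = ⊥
  · rw [h0]; infer_instance
  · rw [IsLocalRing.eq_maximalIdeal (hP.isMaximal_of_ne_bot h0)]; exact hm

theorem flat_of_reduced_dominated {A B : Type u} [CommRing A] [IsDomain A] [IsPrincipalIdealRing A]
    [CommRing B] [IsReduced B] [Algebra A B]
    (h : ∀ P ∈ minimalPrimes B, P.comap (algebraMap A B) = ⊥) : Module.Flat A B := by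
  rw [Module.Flat.flat_iff_torsion_eq_bot_of_isBezout, eq_bot_iff]
  rintro b ⟨⟨a, ha⟩, hab⟩
  replace hab : algebraMap A B a * b = 0 := by rw [← Algebra.smul_def]; exact hab
  have ha0 : a ≠ 0 := nonZeroDivisors.ne_zero ha
  have hb : b ∈ sInf (minimalPrimes B) := Ideal.mem_sInf.2 fun {P} hP => by
    haveI : P.IsPrime := hP.1.1
    refine ((Ideal.IsPrime.mem_or_mem inferInstance (show algebraMap A B a * b ∈ P by rw [hab]; exact P.zero_mem)).resolve_left
      fun hmem => ha0 ?_)
    have : a ∈ P.comap (algebraMap A B) := hmem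
    rwa [h P hP] at this
  have e : sInf (minimalPrimes B) = nilradical B := Ideal.sInf_minimalPrimes
  rw [e, nilradical_eq_zero] at hb
  exact hb

variable {X Y : Scheme.{u}}

theorem fromSpecStalk_bot [IrreducibleSpace Y] (y : Y) [IsDomain (Y.presheaf.stalk y)] :
    Y.fromSpecStalk y (⟨⊥, Ideal.isPrime_bot⟩ : PrimeSpectrum (Y.presheaf.stalk y)) = genericPoint Y := by
  obtain ⟨q, hq⟩ := fromSpecStalk_range_of_specializes (x := y)
    ((genericPoint_spec Y).specializes (Set.mem_univ y))
  refine eq_of_specializes_of_specializes ?_ ((genericPoint_spec Y).specializes (Set.mem_univ _))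
  rw [← hq]
  exact (((PrimeSpectrum.le_iff_specializes (⟨⊥, Ideal.isPrime_bot⟩ : PrimeSpectrum (Y.presheaf.stalk y)) q).1 bot_le)).map
    (Y.fromSpecStalk y).continuous

theorem flat_of_regular_dim_le_one [IrreducibleSpace Y] [IsReduced X]
    (hY : ∀ y : Y, IsRegularLocalRing (Y.presheaf.stalk y) ∧ ringKrullDim (Y.presheaf.stalk y) ≤ 1)
    (f : X ⟶ Y) (h : ∀ η : X, (∀ z, z ⤳ η → z = η) → f η = genericPoint Y) : Flat f := by
  refine Flat.of_stalkMap f fun x => ?_
  haveI := (hY (f x)).1
  haveI := RegLoc6.isDomain_of_isRegularLocalRing (Y.presheaf.stalk (f x))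
  haveI := isPrincipalIdealRing_of_regular_dim_le_one (hY (f x)).2
  letI := (f.stalkMap x).hom.toAlgebra
  haveI : _root_.IsReduced (X.presheaf.stalk x) := inferInstance
  refine flat_of_reduced_dominated fun P hP => ?_
  haveI : P.IsPrime := hP.1.1
  let p : PrimeSpectrum (X.presheaf.stalk x) := ⟨P, hP.1.1⟩
  have h1 : ∀ z, z ⤳ X.fromSpecStalk x p → z = X.fromSpecStalk x p := fun z hz => by
    have hpx : X.fromSpecStalk x p ⤳ x := by
      have : X.fromSpecStalk x p ∈ Set.range (X.fromSpecStalk x) := ⟨p, rfl⟩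
      rwa [Scheme.range_fromSpecStalk] at this
    obtain ⟨q, rfl⟩ := fromSpecStalk_range_of_specializes (hz.trans hpx)
    have hqp : q.asIdeal ≤ P := (PrimeSpectrum.le_iff_specializes q p).2
      ((X.fromSpecStalk x).isEmbedding.isInducing.specializes_iff.1 hz)
    exact congrArg _ (PrimeSpectrum.ext (le_antisymm hqp (hP.2 ⟨q.isPrime, bot_le⟩ hqp)))
  have h2 := h _ h1
  have h3 : f (X.fromSpecStalk x p) = Y.fromSpecStalk (f x) (PrimeSpectrum.comap (f.stalkMap x).hom p) := by
    show (X.fromSpecStalk x ≫ f) p = _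
    rw [← Scheme.SpecMap_stalkMap_fromSpecStalk f]
    rfl
  rw [h3, ← fromSpecStalk_bot (f x)] at h2
  exact congrArg PrimeSpectrum.asIdeal ((Y.fromSpecStalk (f x)).isEmbedding.injective h2)

end Groth.Agent.DimFormula
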