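import Groth.Agent.DimFormula.ClosedSub

/-!
# Closed subsets of equidimensional morphisms
-/

set_option autoImplicit false
set_option linter.style.haveILetI false

open AlgebraicGeometry CategoryTheory Order Topology

namespace Groth.Agent.DimFormula

universe u

variable {X Y : Scheme.{u}} [IrreducibleSpace Y] [IsLocallyNoetherian Y] (f : X ⟶ Y) [LocallyOfFiniteType f]

/-- EGA IV 13.3.7: the key point. -/
theorem equidim_sub_core {x x' : X} (hf : EGA43.IsEquidimAt f x) (hsp : x' ⤳ x) {n E : ℕ}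
    (hc : codim x' ≤ n) (hE : FibDim.rd f x' ≤ E) (hd : E + n ≤ FibDim.rd f x + fb f x) :
    codim x' = n ∧ FibDim.rd f x' = E ∧ E + n = FibDim.rd f x + fb f x ∧ f x' = genericPoint Y := by
  haveI := LocallyOfFiniteType.isLocallyNoetherian f
  obtain ⟨e, U, hxU, h1, h2⟩ := (FibDim.isEquidimAt_iff f x).1 hf
  obtain ⟨t, ht, -, htm, -, htrd⟩ := exists_fibMax_top f x
  have he : FibDim.rd f x + fb f x = e := by rw [← htrd, h2 t (ht.mem_open U.isOpen hxU) htm]
  obtain ⟨z, hz, hfz, hzm, hle, hrd⟩ := codim_add_fb_le f x'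
  have hzU : z ∈ U := (hz.trans hsp).mem_open U.isOpen hxU
  have h3 := h2 z hzU hzm
  have hz0 : codim z = 0 := by omega
  refine ⟨by omega, by omega, by omega, ?_⟩
  rw [← hfz]
  exact maximal_eq_genericPoint (h1 z hzU (codim_eq_zero_iff.1 hz0)).1

theorem codim_le_one_of_maximal_zeroLocus [IsLocallyNoetherian X] (g : Γ(X, ⊤)) {ξ : X}
    (hξ : ξ ∈ X.zeroLocus ({g} : Set Γ(X, ⊤)))
    (hmax : ∀ z, z ⤳ ξ → z ∈ X.zeroLocus ({g} : Set Γ(X, ⊤)) → z = ξ) : codim ξ ≤ 1 := by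
  obtain ⟨U, hU, hξU, -⟩ := exists_isAffineOpen_mem_and_subset (x := ξ) (U := ⊤) trivial
  obtain ⟨P, rfl⟩ := VarDim.exists_fromSpec_eq hU hξU
  haveI : IsNoetherianRing Γ(X, U) := IsLocallyNoetherian.component_noetherian ⟨U, hU⟩
  let gU : Γ(X, U) := X.presheaf.map (homOfLE (le_top (a := U))).op g
  have key : ∀ Q : PrimeSpectrum Γ(X, U),
      hU.fromSpec Q ∈ X.zeroLocus ({g} : Set Γ(X, ⊤)) ↔ gU ∈ Q.asIdeal := fun Q => by
    have h1 : hU.fromSpec Q ∈ X.basicOpen gU ↔ Q ∈ PrimeSpectrum.basicOpen gU := by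
      rw [← hU.fromSpec_preimage_basicOpen]
      rfl
    have h2 : hU.fromSpec Q ∈ X.basicOpen gU ↔ hU.fromSpec Q ∈ X.basicOpen g := by
      rw [Scheme.basicOpen_res]
      exact ⟨fun h => h.2, fun h => ⟨VarDim.fromSpec_mem hU Q, h⟩⟩
    rw [Scheme.mem_zeroLocus_iff]
    simp only [Set.mem_singleton_iff, forall_eq, ← h2, h1, PrimeSpectrum.mem_basicOpen, not_not]
  have hP : P.asIdeal ∈ (Ideal.span {gU}).minimalPrimes := by
    refine ⟨⟨P.isPrime, Ideal.span_le.2 (Set.singleton_subset_iff.2 ((key P).1 hξ))⟩, fun J hJ hJP => ?_⟩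
    have := hmax (hU.fromSpec (⟨J, hJ.1⟩ : PrimeSpectrum Γ(X, U)))
      ((VarDim.fromSpec_specializes_iff hU ⟨J, hJ.1⟩ P).2 hJP)
      ((key ⟨J, hJ.1⟩).2 (hJ.2 (Ideal.mem_span_singleton_self gU)))
    exact (congrArg PrimeSpectrum.asIdeal (hU.fromSpec.isOpenEmbedding.injective this)).ge
  have h1 := Ideal.height_le_one_of_isPrincipal_of_mem_minimalPrimes (Ideal.span {gU}) P.asIdeal hP
  have h2 := (ringKrullDim_stalk (hU.fromSpec P)).symm.trans (VarDim.ringKrullDim_stalk_fromSpec hU P)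
  rw [PrimeSpectrum.height_eq_orderHeight] at h1
  have h3 : (codim (hU.fromSpec P) : ℕ∞) = height P := by exact_mod_cast h2
  rw [← h3] at h1
  exact_mod_cast h1

end Groth.Agent.DimFormula
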