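import Groth.Agent.DimFormula.EquidimSub
import Groth.Agent.DimFormula.ClosedSub
import Groth.Agent.FibDim.GenerizeDim
import Groth.Agent.S5924
import Groth.Agent.S5925
import Groth.Agent.H23.RedSub

/-!
# Quasi-sections of equidimensional morphisms (EGA IV 14.5.3)
-/

set_option autoImplicit false
set_option linter.style.haveILetI false

open AlgebraicGeometry CategoryTheory Limits Topology

namespace Groth.Agent.DimFormula

universe u

variable {X Y : Scheme.{u}}

/-- `i` is a quasi-section of `f` through `x`. -/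
def IsQuasiSection (f : X ⟶ Y) (x : X) {T : Scheme.{u}} (i : T ⟶ X) : Prop :=
  IsImmersion i ∧ IrreducibleSpace ↥T ∧ IsReduced T ∧ x ∈ Set.range i ∧
    LocallyOfFiniteType (i ≫ f) ∧ LocallyQuasiFinite (i ≫ f) ∧ QuasiCompact (i ≫ f) ∧ IsDominant (i ≫ f)

theorem IsQuasiSection.map {X' : Scheme.{u}} {f : X ⟶ Y} {j : X' ⟶ X} [IsImmersion j] {x : X'}
    {T : Scheme.{u}} {i : T ⟶ X'} (h : IsQuasiSection (j ≫ f) x i) : IsQuasiSection f (j x) (i ≫ j) := by
  obtain ⟨h1, h2, h3, ⟨t, rfl⟩, h5⟩ := h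
  refine ⟨inferInstance, h2, h3, ⟨t, Scheme.Hom.comp_apply i j t⟩, ?_⟩
  rw [Category.assoc]
  exact h5

variable (f : X ⟶ Y) [LocallyOfFiniteType f]

theorem rd_eq_zero_of_closed {x : X} (h : ∀ x', f x' = f x → x ⤳ x' → x' = x) : FibDim.rd f x = 0 := by
  have h1 := FibDim.dim_closure_inter f x
  have h2 : closure {x} ∩ f ⁻¹' {f x} = {x} :=
    Set.eq_singleton_iff_unique_mem.2 ⟨⟨subset_closure rfl, rfl⟩,
      fun z hz => h z hz.2 (specializes_iff_mem_closure.2 hz.1)⟩
  rw [h2] at h1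
  have h3 : topologicalKrullDim ↥({x} : Set X) ≤ 0 :=
    topologicalKrullDim_zero_of_discreteTopology _
  rw [h1] at h3
  have : ((FibDim.rd f x : ℕ∞)) ≤ 0 := WithBot.coe_le_coe.1 h3
  exact_mod_cast nonpos_iff_eq_zero.1 this

theorem fb_opens (U : X.Opens) (u : (U : Scheme.{u})) : fb (U.ι ≫ f) u = fb f (U.ι u) := by
  obtain ⟨z, hz, hfz, -, -, he⟩ := exists_fibMax_top (U.ι ≫ f) u
  obtain ⟨z', hz', hfz', -, -, he'⟩ := exists_fibMax_top f (U.ι u)
  rw [FibDim.rd_opens, FibDim.rd_opens] at he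
  have h1 := rd_le_rd_add_fb f (hz.map U.ι.continuous) hfz
  obtain ⟨w, rfl⟩ : z' ∈ Set.range U.ι := by
    rw [Scheme.Opens.range_ι]; exact hz'.mem_open U.isOpen u.2
  have h2 := rd_le_rd_add_fb (U.ι ≫ f) (U.ι.isOpenEmbedding.isInducing.specializes_iff.1 hz') hfz'
  rw [FibDim.rd_opens, FibDim.rd_opens] at h2
  omega

theorem isEquidimAt_opens (U : X.Opens) (u : (U : Scheme.{u})) (h : EGA43.IsEquidimAt f (U.ι u)) :
    EGA43.IsEquidimAt (U.ι ≫ f) u := by
  obtain ⟨e, W, huW, h1, h2⟩ := (FibDim.isEquidimAt_iff f _).1 h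
  refine (FibDim.isEquidimAt_iff _ _).2 ⟨e, U.ι ⁻¹ᵁ W, huW, fun η hη hmax => h1 _ hη fun z hz => ?_,
    fun z hz hm => by rw [FibDim.rd_opens]; exact h2 _ hz ((FibDim.fibMax_opens_iff f U z).1 hm)⟩
  obtain ⟨w, rfl⟩ : z ∈ Set.range U.ι := by
    rw [Scheme.Opens.range_ι]; exact hz.mem_open U.isOpen η.2
  exact congrArg U.ι (hmax w (U.ι.isOpenEmbedding.isInducing.specializes_iff.1 hz))

/-- The case of relative dimension zero. -/
theorem exists_quasiSection_zero [IrreducibleSpace Y] [IsLocallyNoetherian Y] {x : X}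
    (hf : EGA43.IsEquidimAt f x) (h0 : FibDim.rd f x + fb f x = 0) :
    ∃ (T : Scheme.{u}) (i : T ⟶ X), IsQuasiSection f x i := by
  haveI := LocallyOfFiniteType.isLocallyNoetherian f
  obtain ⟨e, U, hxU, h1, h2⟩ := (FibDim.isEquidimAt_iff f x).1 hf
  have hxm : FibDim.FibMax f x := (fb_eq_zero_iff f x).1 (by omega)
  have he : e = 0 := by rw [← h2 x hxU hxm]; omega
  obtain ⟨η, hη, hmax⟩ := FibDim.exists_maximal_generization x
  obtain ⟨U', hU', hxU', hU'U⟩ := exists_isAffineOpen_mem_and_subset (x := x) (U := U) hxU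
  have hηU' : η ∈ U' := hη.mem_open U'.isOpen hxU'
  let η' : (U' : Scheme.{u}) := ⟨η, hηU'⟩
  let j := (Scheme.IdealSheafData.vanishingIdeal
    (⟨closure {η'}, isClosed_closure⟩ : TopologicalSpace.Closeds ↥(U' : Scheme.{u}))).subschemeι
  have hrange : Set.range j = closure {η'} := range_vanishingIdeal _
  haveI : IsReduced (Scheme.IdealSheafData.vanishingIdeal
    (⟨closure {η'}, isClosed_closure⟩ : TopologicalSpace.Closeds ↥(U' : Scheme.{u}))).subscheme :=
    H23.RedSub.isReduced_vanishingIdeal _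
  have hirr : IrreducibleSpace ↥(Scheme.IdealSheafData.vanishingIdeal
      (⟨closure {η'}, isClosed_closure⟩ : TopologicalSpace.Closeds ↥(U' : Scheme.{u}))).subscheme := by
    haveI : IrreducibleSpace ↥(Set.range j) := by
      rw [hrange]
      exact Subtype.irreducibleSpace isIrreducible_singleton.closure
    exact j.isClosedEmbedding.isEmbedding.toHomeomorph.symm.surjective.irreducibleSpace
      j.isClosedEmbedding.isEmbedding.toHomeomorph.symm.continuous
  haveI : IsAffine (U' : Scheme.{u}) := hU'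
  haveI : IsLocallyNoetherian (U' : Scheme.{u}) := inferInstance
  obtain ⟨x₀, hx₀⟩ : (⟨x, hxU'⟩ : (U' : Scheme.{u})) ∈ Set.range j := by
    rw [hrange]
    exact specializes_iff_mem_closure.1 (U'.ι.isOpenEmbedding.isInducing.specializes_iff.1 hη)
  obtain ⟨η₀, hη₀⟩ : η' ∈ Set.range j := by rw [hrange]; exact subset_closure rfl
  haveI : CompactSpace ↥(Scheme.IdealSheafData.vanishingIdeal
      (⟨closure {η'}, isClosed_closure⟩ : TopologicalSpace.Closeds ↥(U' : Scheme.{u}))).subscheme :=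
    j.isClosedEmbedding.compactSpace
  haveI : QuasiSeparatedSpace Y := inferInstance
  refine ⟨_, j ≫ U'.ι, inferInstance, hirr, inferInstance, ⟨x₀, ?_⟩, inferInstance, ?_, inferInstance, ?_⟩
  · rw [Scheme.Hom.comp_apply, hx₀]; rfl
  · have hrd : ∀ w, FibDim.rd ((j ≫ U'.ι) ≫ f) w = 0 := fun w => by
      rw [Category.assoc, rd_closedSub, FibDim.rd_opens]
      obtain ⟨z, hz, hfz, hzm, hd⟩ := FibDim.exists_fibMax_generization f (U'.ι (j w))
      have hzU : z ∈ U := hz.mem_open U.isOpen (hU'U (j w).2)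
      have := FibDim.rd_le_of_specializes f hz hfz
      rw [h2 z hzU hzm, he] at this
      exact Nat.le_zero.1 this
    refine LocallyQuasiFinite.of_finite_preimage_singleton _ fun y => ?_
    haveI : IsLocallyNoetherian (((j ≫ U'.ι) ≫ f).fiber y) :=
      LocallyOfFiniteType.isLocallyNoetherian (((j ≫ U'.ι) ≫ f).fiberToSpecResidueField y)
    haveI : IsNoetherian (((j ≫ U'.ι) ≫ f).fiber y) := {}
    obtain ⟨P, -, hP⟩ := FibDim.exists_finite_generic (Z := ((j ≫ U'.ι) ≫ f).fiber y) (S := Set.univ) isClosed_univ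
    refine Set.Finite.subset ((P.finite_toSet).image (((j ≫ U'.ι) ≫ f).fiberι y)) fun w hw => ?_
    obtain ⟨a, rfl⟩ : w ∈ Set.range (((j ≫ U'.ι) ≫ f).fiberι y) := by
      rw [Scheme.Hom.range_fiberι]; exact hw
    obtain ⟨p, hp, hpa⟩ := Set.mem_iUnion₂.1 (hP (Set.mem_univ a))
    refine ⟨p, hp, ?_⟩
    by_contra hne
    have := FibDim.rd_lt ((j ≫ U'.ι) ≫ f)
      ((specializes_iff_mem_closure.2 hpa).map (((j ≫ U'.ι) ≫ f).fiberι y).continuous) hne
      ((FibDim.fiber_apply_fiberι _ p).trans (FibDim.fiber_apply_fiberι _ a).symm)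
    rw [hrd, hrd] at this
    omega
  · refine ⟨dense_iff_closure_eq.2 (Set.univ_subset_iff.1 ?_)⟩
    rw [← (genericPoint_spec Y).def]
    refine closure_mono (Set.singleton_subset_iff.2 ⟨η₀, ?_⟩)
    rw [Scheme.Hom.comp_apply, Scheme.Hom.comp_apply, hη₀]
    exact maximal_eq_genericPoint (h1 η (hη.mem_open U.isOpen hxU) hmax).1

/-- EGA IV 14.5.3. -/
theorem exists_quasiSection [IrreducibleSpace Y] [IsLocallyNoetherian Y] :
    ∀ (n : ℕ) {X : Scheme.{u}} (f : X ⟶ Y) [LocallyOfFiniteType f] (x : X), EGA43.IsEquidimAt f x →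
      FibDim.rd f x + fb f x = n → (∀ x', f x' = f x → x ⤳ x' → x' = x) →
      ∃ (T : Scheme.{u}) (i : T ⟶ X), IsQuasiSection f x i := by
  intro n
  induction n with
  | zero => exact fun f _ x hf h0 _ => exists_quasiSection_zero f hf h0
  | succ n ih =>
    intro X f _ x hf hn hcl
    haveI := LocallyOfFiniteType.isLocallyNoetherian f
    have hr := rd_eq_zero_of_closed f hcl
    obtain ⟨z, hz, hfz, hzm, -, hrz⟩ := exists_fibMax_top f x
    have hzx : z ≠ x := fun h => by rw [h] at hrz; omega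
    obtain ⟨U, hU, hxU, g, hgx, hg⟩ := S5924.result f x hf ⟨z, hfz, hzx, specializes_iff_mem_closure.1 hz⟩
    let x' : (U : Scheme.{u}) := ⟨x, hxU⟩
    let g' : Γ((U : Scheme.{u}), ⊤) := U.topIso.inv g
    have hmem : ∀ w : (U : Scheme.{u}), w ∈ (U : Scheme.{u}).zeroLocus ({g'} : Set Γ((U : Scheme.{u}), ⊤)) ↔
        U.ι w ∉ X.basicOpen g := fun w => by
      rw [Scheme.zeroLocus_singleton, Set.mem_compl_iff, ← Scheme.Opens.ι_image_basicOpen_topIso_inv U g]
      exact not_congr (U.ι.isOpenEmbedding.injective.mem_set_image (s := ((U : Scheme.{u}).basicOpen g' : Set _))).symm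
    have hf' := isEquidimAt_opens f U x' hf
    have hgx' : x' ∈ (U : Scheme.{u}).zeroLocus ({g'} : Set Γ((U : Scheme.{u}), ⊤)) := (hmem x').2 hgx
    obtain ⟨he, hd, -⟩ := S5925.result (U.ι ≫ f) x' hf' g' hgx' fun z hfz hzm hzZ => by
      refine (hmem z).1 hzZ (hg (U.ι z) hfz (fun z' h1 h2 => ?_) z.2)
      obtain ⟨w, rfl⟩ : z' ∈ Set.range U.ι := by
        rw [Scheme.Opens.range_ι]; exact (specializes_iff_mem_closure.2 h2).mem_open U.isOpen z.2
      rw [hzm w h1 (specializes_iff_mem_closure.1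
        (U.ι.isOpenEmbedding.isInducing.specializes_iff.1 (specializes_iff_mem_closure.2 h2)))]
    let j := (Scheme.IdealSheafData.vanishingIdeal
      ⟨(U : Scheme.{u}).zeroLocus ({g'} : Set Γ((U : Scheme.{u}), ⊤)), Scheme.zeroLocus_isClosed _ _⟩).subschemeι
    have hrange : Set.range j = (U : Scheme.{u}).zeroLocus ({g'} : Set Γ((U : Scheme.{u}), ⊤)) := range_vanishingIdeal _
    obtain ⟨w, hw⟩ : x' ∈ Set.range j := by rw [hrange]; exact hgx'
    have hd' := localDim_inter_fibre (U.ι ≫ f) j hrange w hw ⟨hgx', rfl⟩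
    rw [hd', fibreDimAt_eq_add, fb_opens] at hd
    have hd₂ : FibDim.rd (U.ι ≫ f) x' + fb (j ≫ U.ι ≫ f) w + 1 = FibDim.rd (U.ι ≫ f) x' + fb f x := by
      exact_mod_cast hd
    obtain ⟨T, i, hi⟩ := ih (j ≫ U.ι ≫ f) w (he w hw) (by rw [rd_closedSub, hw]; rw [FibDim.rd_opens, show U.ι x' = x from rfl, hr] at hd₂ ⊢; omega)
      fun v hv hwv => by
        refine j.isClosedEmbedding.injective (U.ι.isOpenEmbedding.injective ?_)
        have h := hwv.map (j ≫ U.ι).continuous
        rw [Scheme.Hom.comp_apply, Scheme.Hom.comp_apply, hw] at h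
        rw [hw]
        refine hcl _ ?_ h
        rw [Scheme.Hom.comp_apply, Scheme.Hom.comp_apply, Scheme.Hom.comp_apply, Scheme.Hom.comp_apply, hw] at hv
        exact hv
    have h1 := IsQuasiSection.map hi
    rw [hw] at h1
    exact ⟨T, _, h1.map⟩

end Groth.Agent.DimFormula
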