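import Groth.Agent.DimFormula.Basic

/-!
# The fibre invariant is a transcendence degree
-/

set_option autoImplicit false
set_option linter.style.haveILetI false

open Order

namespace Groth.Agent.DimFormula

universe u

variable (A : Type u) {B : Type u} [CommRing A] [CommRing B] [Algebra A B] [Algebra.FiniteType A B]

theorem indepMod_iff_of_quotient {C : Type u} [CommRing C] [Algebra A C] (p : Ideal A) [p.IsPrime]
    [Algebra (A ⧸ p) C] [IsScalarTower A (A ⧸ p) C] (φ : B →ₐ[A] C) (P : Ideal B)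
    (hker : RingHom.ker φ.toRingHom = P) (hp : P.under A = p) {n : ℕ} (t : Fin n → B) :
    FibDim.IndepMod (A := A) t P ↔ AlgebraicIndependent (A ⧸ p) (fun i => φ (t i)) := by
  have key : ∀ G : MvPolynomial (Fin n) A,
      MvPolynomial.aeval (fun i => φ (t i)) (MvPolynomial.map (Ideal.Quotient.mk p) G) =
        φ (MvPolynomial.aeval t G) := fun G => by
    rw [MvPolynomial.comp_aeval_apply t φ G, ← Ideal.Quotient.algebraMap_eq, MvPolynomial.aeval_map_algebraMap]
  rw [algebraicIndependent_iff]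
  constructor
  · intro h H hH
    obtain ⟨G, rfl⟩ := MvPolynomial.map_surjective _ (Ideal.Quotient.mk_surjective (I := p)) H
    rw [key] at hH
    have h1 := MvPolynomial.mem_map_C_iff.1 (h G (hker.le hH))
    ext d
    rw [MvPolynomial.coeff_map, MvPolynomial.coeff_zero, Ideal.Quotient.eq_zero_iff_mem, ← hp]
    exact h1 d
  · intro h G hG
    have h1 := h (MvPolynomial.map (Ideal.Quotient.mk p) G) ((key G).trans (hker.ge hG))
    rw [MvPolynomial.mem_map_C_iff, hp]
    intro d
    have := congrArg (MvPolynomial.coeff d) h1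
    rwa [MvPolynomial.coeff_map, MvPolynomial.coeff_zero, Ideal.Quotient.eq_zero_iff_mem] at this

/-- `fd` is the transcendence degree of `B/P` over `A/p`. -/
theorem fd_eq_trdeg {C : Type u} [CommRing C] [Algebra A C] (p : Ideal A) [p.IsPrime]
    [Algebra (A ⧸ p) C] [IsScalarTower A (A ⧸ p) C] (φ : B →ₐ[A] C) (hφ : Function.Surjective φ)
    (P : Ideal B) [P.IsPrime] (hker : RingHom.ker φ.toRingHom = P) (hp : P.under A = p) :
    (fd A P : Cardinal.{u}) = Algebra.trdeg (A ⧸ p) C := by
  refine le_antisymm ?_ (ciSup_le' fun s => ?_)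
  · obtain ⟨t, ht⟩ := (le_fd_iff A P _).1 le_rfl
    have := ((indepMod_iff_of_quotient A p φ P hker hp t).1 ht).lift_cardinalMk_le_trdeg
    simpa using this
  · by_contra hlt
    push Not at hlt
    have h1 : ((fd A P + 1 : ℕ) : Cardinal.{u}) ≤ Cardinal.mk ↥s.1 := by
      rw [Nat.cast_succ, Cardinal.natCast_add_one_le_iff]
      exact hlt
    obtain ⟨e⟩ : Nonempty (ULift.{u} (Fin (fd A P + 1)) ↪ ↥s.1) := by
      rw [← Cardinal.le_def, Cardinal.mk_uLift, Cardinal.mk_fin, Cardinal.lift_natCast]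
      exact h1
    choose t ht using fun i : Fin (fd A P + 1) => hφ (e ⟨i⟩).1
    have h2 : AlgebraicIndependent (A ⧸ p) (fun i => φ (t i)) := by
      simp only [ht]
      exact s.2.comp (fun i => e ⟨i⟩) fun i j hij => congrArg ULift.down (e.injective hij)
    have := (le_fd_iff A P _).2 ⟨t, (indepMod_iff_of_quotient A p φ P hker hp t).2 h2⟩
    omega

theorem fd_bot_eq_trdeg [IsDomain A] [IsDomain B] [FaithfulSMul A B] :
    (fd A (⊥ : Ideal B) : Cardinal.{u}) = Algebra.trdeg A B := by
  have hbot : (⊥ : Ideal B).under A = ⊥ :=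
    (RingHom.ker_eq_comap_bot _).symm.trans
      ((RingHom.injective_iff_ker_eq_bot _).1 (FaithfulSMul.algebraMap_injective A B))
  have key : ∀ {n : ℕ} (t : Fin n → B), FibDim.IndepMod (A := A) t (⊥ : Ideal B) ↔ AlgebraicIndependent A t :=
    fun t => by
      rw [FibDim.IndepMod, hbot, Ideal.map_bot, algebraicIndependent_iff]
      simp only [Ideal.mem_bot]
  refine le_antisymm ?_ (ciSup_le' fun s => ?_)
  · obtain ⟨t, ht⟩ := (le_fd_iff A (⊥ : Ideal B) _).1 le_rfl
    have := ((key t).1 ht).lift_cardinalMk_le_trdeg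
    simpa using this
  · by_contra hlt
    push Not at hlt
    have h1 : ((fd A (⊥ : Ideal B) + 1 : ℕ) : Cardinal.{u}) ≤ Cardinal.mk ↥s.1 := by
      rw [Nat.cast_succ, Cardinal.natCast_add_one_le_iff]
      exact hlt
    obtain ⟨e⟩ : Nonempty (ULift.{u} (Fin (fd A (⊥ : Ideal B) + 1)) ↪ ↥s.1) := by
      rw [← Cardinal.le_def, Cardinal.mk_uLift, Cardinal.mk_fin, Cardinal.lift_natCast]
      exact h1
    have := (le_fd_iff A (⊥ : Ideal B) _).2 ⟨fun i => (e ⟨i⟩).1,
      (key _).2 (s.2.comp (fun i => e ⟨i⟩) fun i j hij => congrArg ULift.down (e.injective hij))⟩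
    omega

/-- The dimension formula with transcendence degrees. -/
theorem trdeg_formula [IsDomain A] [IsDomain B] [FaithfulSMul A B] [IsNoetherianRing A] (p : Ideal A)
    [p.IsPrime] (q : Ideal B) [q.IsPrime] [q.LiesOver p] :
    (q.height : Cardinal.{u}) + Algebra.trdeg (A ⧸ p) (B ⧸ q) ≤
        (p.height : Cardinal.{u}) + Algebra.trdeg A B ∧
      (CAlg.IsUniversallyCatenary (Localization.AtPrime p) →
        (q.height : Cardinal.{u}) + Algebra.trdeg (A ⧸ p) (B ⧸ q) =
          (p.height : Cardinal.{u}) + Algebra.trdeg A B) := by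
  obtain rfl : p = q.under A := Ideal.LiesOver.over (P := q) (p := p)
  let Q : PrimeSpectrum B := ⟨q, inferInstance⟩
  obtain ⟨h1, h2⟩ := dimension_formula A Q
  have e1 : (fd A q : Cardinal.{u}) = Algebra.trdeg (A ⧸ q.under A) (B ⧸ q) :=
    fd_eq_trdeg A (q.under A) (Ideal.Quotient.mkₐ A q) Ideal.Quotient.mk_surjective q Ideal.mk_ker rfl
  have e2 : q.height = height Q := PrimeSpectrum.height_eq_orderHeight Q
  have e3 : (q.under A).height = height (PrimeSpectrum.comap (algebraMap A B) Q) :=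
    PrimeSpectrum.height_eq_orderHeight (PrimeSpectrum.comap (algebraMap A B) Q)
  have hc : ∀ (a : ℕ∞) (n : ℕ), ((a + (n : ℕ∞) : ℕ∞) : Cardinal.{u}) = (a : Cardinal.{u}) + n := fun a n => by
    rw [Cardinal.ofENat_add, Cardinal.ofENat_nat]
  rw [← e1, ← fd_bot_eq_trdeg A (B := B), e2, e3, ← hc, ← hc]
  exact ⟨Cardinal.ofENat_le_ofENat.2 h1, fun hA => congrArg _ (h2 hA)⟩

end Groth.Agent.DimFormula
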