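import Groth.Agent.DimFormula.Jacobson

/-!
# Local dimension on Jacobson schemes
-/

set_option autoImplicit false
set_option linter.style.haveILetI false

open AlgebraicGeometry CategoryTheory Order Topology

namespace Groth.Agent.DimFormula

universe u

variable {X : Scheme.{u}} [IsLocallyNoetherian X] [JacobsonSpace X]

theorem DimGood.dim_closure (h : DimGood X) (x : X) :
    topologicalKrullDim ↥(closure ({x} : Set X)) = ((dd x : ℕ∞) : WithBot ℕ∞) := by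
  rw [h.topologicalKrullDim_eq isClosed_closure]
  refine le_antisymm (iSup_le fun z => ?_) (le_iSup_of_le ⟨x, subset_closure rfl⟩ le_rfl)
  exact_mod_cast h.dd_le (specializes_iff_mem_closure.2 z.2)

theorem DimGood.exists_top (h : DimGood X) {Y : Set X} (hY : IsClosed Y) {x : X} (hx : x ∈ Y) :
    ∃ η ∈ Y, η ⤳ x ∧ (∀ ζ ∈ Y, ζ ⤳ x → dd ζ ≤ dd η) ∧
      FlatMor.localDim ↥Y ⟨x, hx⟩ = ((dd η : ℕ∞) : WithBot ℕ∞) ∧
      topologicalKrullDim ↥{t : X | t ∈ Y ∧ t ⤳ x} = ((cd η x : ℕ∞) : WithBot ℕ∞) := by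
  let S : Set ℕ := {n | ∃ ζ ∈ Y, ζ ⤳ x ∧ cd ζ x = n}
  have hbd : BddAbove S := ⟨codim x, by rintro n ⟨ζ, -, hζ, rfl⟩; exact cd_le_codim hζ⟩
  obtain ⟨η, hη, hηx, he⟩ := Nat.sSup_mem (s := S) ⟨_, x, hx, specializes_rfl, rfl⟩ hbd
  have hmax : ∀ ζ ∈ Y, ζ ⤳ x → cd ζ x ≤ cd η x := fun ζ h1 h2 => he ▸ le_csSup hbd ⟨ζ, h1, h2, rfl⟩
  have hdd : ∀ ζ ∈ Y, ζ ⤳ x → dd ζ ≤ dd η := fun ζ h1 h2 => by
    rw [h.dd_add h2, h.dd_add hηx]
    exact Nat.add_le_add_left (hmax ζ h1 h2) _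
  have himg : ∀ W : Set X,
      topologicalKrullDim ↥(Subtype.val ⁻¹' W : Set ↥Y) = topologicalKrullDim ↥(W ∩ Y) := fun W =>
    ((IsEmbedding.subtypeVal.homeomorphImage _).trans (Homeomorph.setCongr (by
      rw [Subtype.image_preimage_coe, Set.inter_comm]))).isHomeomorph.topologicalKrullDim_eq
  refine ⟨η, hη, hηx, hdd, le_antisymm ?_ (le_iInf fun V => ?_), ?_⟩
  · obtain ⟨W, hxW, hW⟩ := FibDim.exists_nhd_generizing hY x
    refine iInf_le_of_le ⟨⟨Subtype.val ⁻¹' (W : Set X), W.isOpen.preimage continuous_subtype_val⟩, hxW⟩ ?_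
    refine (himg W).le.trans ?_
    rw [h.topologicalKrullDim_inter W.isOpen hY]
    refine iSup_le fun z => ?_
    obtain ⟨ζ, hζ, hζx, hζz⟩ := hW z.1 z.2.1 z.2.2
    exact_mod_cast (h.dd_le hζz).trans (hdd ζ hζ hζx)
  · obtain ⟨V', hV', hVV'⟩ := IsEmbedding.subtypeVal.isInducing.isOpen_iff.1 V.1.2
    show _ ≤ topologicalKrullDim ↥(V.1 : Set ↥Y)
    have hxV : x ∈ V' := show (⟨x, hx⟩ : ↥Y) ∈ Subtype.val ⁻¹' V' from hVV'.symm ▸ V.2
    refine le_of_le_of_eq ?_ (Homeomorph.setCongr hVV').isHomeomorph.topologicalKrullDim_eq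
    rw [himg, h.topologicalKrullDim_inter hV' hY]
    exact le_iSup_of_le ⟨η, hηx.mem_open hV' hxV, hη⟩ le_rfl
  · rw [topologicalKrullDim_gen hY]
    refine le_antisymm (iSup_le fun t => ?_) (le_iSup_of_le ⟨η, hη, hηx⟩ le_rfl)
    exact_mod_cast hmax t.1 t.2.1 t.2.2

theorem DimGood.component_dim (h : DimGood X) {Y : Set X} (hY : IsClosed Y) {C : Set ↥Y}
    (hC : C ∈ irreducibleComponents ↥Y) :
    ∃ ξ : ↥Y, C = closure {ξ} ∧ topologicalKrullDim ↥C = ((dd ξ.1 : ℕ∞) : WithBot ℕ∞) := by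
  haveI : QuasiSober ↥Y := hY.isClosedEmbedding_subtypeVal.quasiSober
  obtain ⟨ξ, rfl, -⟩ := FDescent.exists_maximal_of_mem_irreducibleComponents hC
  refine ⟨ξ, rfl, ?_⟩
  rw [(IsEmbedding.subtypeVal.homeomorphImage (closure ({ξ} : Set ↥Y))).isHomeomorph.topologicalKrullDim_eq,
    (Homeomorph.setCongr (show Subtype.val '' closure ({ξ} : Set ↥Y) = closure {ξ.1} by
      rw [← hY.isClosedEmbedding_subtypeVal.closure_image_eq, Set.image_singleton])).isHomeomorph.topologicalKrullDim_eq,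
    h.dim_closure]

theorem dense_mem_maximal {U : Set X} (hU : IsOpen U) (hd : Dense U) {η : X}
    (hη : ∀ z, z ⤳ η → z = η) : η ∈ U := by
  obtain ⟨W, hW, hWgen⟩ := FibDim.exists_nhd_generizing (X := X) (Z := Set.univ) isClosed_univ η
  obtain ⟨z, hzW, hzU⟩ := hd.inter_open_nonempty W W.isOpen ⟨η, hW⟩
  obtain ⟨ζ, -, hζη, hζz⟩ := hWgen z hzW trivial
  rw [← hη ζ hζη]
  exact hζz.mem_open hU hzU

end Groth.Agent.DimFormula
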