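import Groth.Agent.DimFormula.Equidim

/-!
# When the dimension formula holds
-/

set_option autoImplicit false
set_option linter.style.haveILetI false

open AlgebraicGeometry CategoryTheory Order Topology

namespace Groth.Agent.DimFormula

universe u

variable {X Y : Scheme.{u}} (f : X ⟶ Y) [LocallyOfFiniteType f] [IsLocallyNoetherian Y]

theorem formula_iff (x : X) :
    ringKrullDim (X.presheaf.stalk x) =
        ringKrullDim (Y.presheaf.stalk (f x)) + ringKrullDim ((f.fiber (f x)).presheaf.stalk (f.asFiber x)) ↔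
      codim x = codim (f x) + fb f x := by
  haveI := LocallyOfFiniteType.isLocallyNoetherian f
  rw [ringKrullDim_stalk, ringKrullDim_stalk, ringKrullDim_stalk_fibre]
  norm_cast

theorem fibre_stalk_zero_iff (z : X) :
    ringKrullDim ((f.fiber (f z)).presheaf.stalk (f.asFiber z)) = 0 ↔ fb f z = 0 := by
  rw [ringKrullDim_stalk_fibre]
  norm_cast

include f in
theorem stalk_eq_iff {Z : Scheme.{u}} [IsLocallyNoetherian Z] (z : X) (y : Z) :
    ringKrullDim (X.presheaf.stalk z) = ringKrullDim (Z.presheaf.stalk y) ↔ codim z = codim y := by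
  haveI := LocallyOfFiniteType.isLocallyNoetherian f
  rw [ringKrullDim_stalk, ringKrullDim_stalk]
  norm_cast

/-- At a maximal point of a fibre with `dim O_z = dim O_y`, the witness component. -/
theorem exists_witness {z : X} (hfb : fb f z = 0) (hc : codim z = codim (f z)) :
    ∃ η, η ⤳ z ∧ (∀ t, t ⤳ η → t = η) ∧ cd η z = codim z ∧ cd (f η) (f z) = codim (f z) ∧
      FibDim.rd f η = FibDim.rd f z := by
  haveI := LocallyOfFiniteType.isLocallyNoetherian f
  obtain ⟨η, hη, hmax, he⟩ := exists_maximal_cd_eq_codim z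
  have h1 := (cd_formula f hη).1
  have h2 := cd_le_codim (hη.map f.continuous)
  have h3 := rd_le_of_specializes' f hη
  exact ⟨η, hη, hmax, he, by omega, by omega⟩

/-- If `dim O_z = dim O_y` at the top maximal point of the fibre, the formula holds at `x`. -/
theorem formula_of_top {x z : X} (hcat : CAlg.IsUniversallyCatenary (Y.presheaf.stalk (f x)))
    (hz : z ⤳ x) (hfz : f z = f x) (hfb : fb f z = 0) (hrd : FibDim.rd f z = FibDim.rd f x + fb f x)
    (hc : codim z = codim (f z)) : codim x = codim (f x) + fb f x := by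
  haveI := LocallyOfFiniteType.isLocallyNoetherian f
  obtain ⟨η, hη, -, -, hy, hr⟩ := exists_witness f hfb hc
  refine le_antisymm (codim_le_add f x) ?_
  have h1 := (cd_formula f (hη.trans hz)).2 hcat
  have h2 := cd_le_codim (hη.trans hz)
  rw [← hfz, hy] at h1
  rw [← hfz]
  omega

/-- Conversely. -/
theorem exists_top_of_formula {x : X} (hcat : CAlg.IsUniversallyCatenary (Y.presheaf.stalk (f x)))
    (hc : codim x = codim (f x) + fb f x) :
    ∃ z, z ⤳ x ∧ f z = f x ∧ FibDim.FibMax f z ∧ FibDim.rd f z = FibDim.rd f x + fb f x ∧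
      codim z = codim (f z) := by
  haveI := LocallyOfFiniteType.isLocallyNoetherian f
  obtain ⟨η, hη, -, he⟩ := exists_maximal_cd_eq_codim x
  have h1 := (cd_formula f hη).1
  have h2 := cd_le_codim (hη.map f.continuous)
  have h3 := rd_le_of_specializes' f hη
  obtain ⟨z, hηz, hzx, hfz, hr⟩ := FibDim.exists_rd_ge f hη
  have h4 := rd_le_rd_add_fb f hzx hfz
  have hm : FibDim.FibMax f z := fun w hw hfw => by
    by_contra hne
    have := FibDim.rd_lt f hw hne hfw
    have := rd_le_rd_add_fb f (hw.trans hzx) (hfw.trans hfz)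
    omega
  refine ⟨z, hzx, hfz, hm, by omega, le_antisymm ?_ ?_⟩
  · have := codim_le_add f z
    rw [(fb_eq_zero_iff f z).2 hm] at this
    omega
  · have h5 := (cd_formula f hηz).2 (hfz.symm ▸ hcat)
    have h6 := cd_le_codim hηz
    rw [hfz] at h5 ⊢
    omega

theorem fibreDimAt_eq_iff (z x : X) :
    FlatMor.fibreDimAt f z = FlatMor.fibreDimAt f x ↔
      FibDim.rd f z + fb f z = FibDim.rd f x + fb f x := by
  rw [fibreDimAt_eq_add, fibreDimAt_eq_add]
  norm_cast

theorem generic_fibre_dim [IrreducibleSpace X] [IrreducibleSpace Y] [IsDominant f] :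
    f (genericPoint X) = genericPoint Y ∧
      topologicalKrullDim ↥(f.fiber (genericPoint Y)) = ((FibDim.rd f (genericPoint X) : ℕ∞) : WithBot ℕ∞) := by
  have he : f (genericPoint X) = genericPoint Y := by
    refine ((genericPoint_spec X).image f.continuous).eq ?_
    have hcl : closure (f '' Set.univ) = ⊤ := by
      rw [Set.image_univ]; exact f.denseRange.closure_range
    rw [hcl]
    exact genericPoint_spec Y
  refine ⟨he, ?_⟩
  rw [FibDim.topologicalKrullDim_fiber f]
  refine le_antisymm (iSup_le fun z => ?_) (le_iSup_of_le ⟨genericPoint X, he⟩ le_rfl)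
  exact_mod_cast FibDim.rd_le_of_specializes f ((genericPoint_spec X).specializes (Set.mem_univ z.1))
    (he.trans z.2.symm)

theorem maximal_eq_genericPoint {Z : Scheme.{u}} [IrreducibleSpace Z] {y : Z}
    (h : ∀ z, z ⤳ y → z = y) : y = genericPoint Z :=
  (h _ ((genericPoint_spec Z).specializes (Set.mem_univ y))).symm

end Groth.Agent.DimFormula
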