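import Groth.Agent.DimFormula.Criteria
import Mathlib.AlgebraicGeometry.Morphisms.Finite

/-!
# Dimension on Jacobson schemes with the dimension formula (EGA IV 10.6)
-/

set_option autoImplicit false
set_option linter.style.haveILetI false

open AlgebraicGeometry CategoryTheory Order Topology

namespace Groth.Agent.DimFormula

universe u

theorem height_Ici_Ici {α : Type*} [Preorder α] {q r p : α} (h₁ : q ≤ r) (h₂ : r ≤ p) :
    height (⟨⟨p, h₁.trans h₂⟩, h₂⟩ : ↥(Set.Ici (⟨r, h₁⟩ : ↥(Set.Ici q)))) =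
      height (⟨p, h₂⟩ : ↥(Set.Ici r)) :=
  height_eq_of_strictMono (fun t : ↥(Set.Ici (⟨r, h₁⟩ : ↥(Set.Ici q))) => (⟨t.1.1, t.2⟩ : ↥(Set.Ici r)))
    (fun _ _ h => h) (fun _ b hb => ⟨⟨⟨b.1, h₁.trans b.2⟩, b.2⟩, hb, rfl⟩) _

variable {X : Scheme.{u}}

/-- At a point with catenary local ring codimensions add up. -/
theorem cd_trans [IsLocallyNoetherian X] {ζ η s : X} (hη : η ⤳ s) (hζ : ζ ⤳ η)
    (hcat : CAlg.IsUniversallyCatenary (X.presheaf.stalk s)) : cd ζ s = cd η s + cd ζ η := by
  let R : Type u := X.presheaf.stalk s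
  let c : PrimeSpectrum R → X := X.fromSpecStalk s
  have hc : IsEmbedding c := (X.fromSpecStalk s).isEmbedding
  have hrange : ∀ t, t ⤳ s → t ∈ Set.range c := fun t ht => fromSpecStalk_range_of_specializes ht
  have hsp : ∀ a b, c a ⤳ c b ↔ a ≤ b := fun a b =>
    hc.isInducing.specializes_iff.trans (PrimeSpectrum.le_iff_specializes a b).symm
  obtain ⟨q, rfl⟩ := hrange ζ (hζ.trans hη)
  obtain ⟨r, rfl⟩ := hrange η hη
  obtain ⟨m, hm⟩ : ∃ m, c m = s := ⟨IsLocalRing.closedPoint R, Scheme.fromSpecStalk_closedPoint⟩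
  have hqr : q ≤ r := (hsp q r).1 hζ
  have hrm : r ≤ m := (hsp r m).1 (hm.symm ▸ hη)
  have key : ∀ {a b : PrimeSpectrum R} (h : a ≤ b), (∀ t, t ⤳ c b → t ∈ Set.range c) →
      (height (⟨b, h⟩ : ↥(Set.Ici a))) = (cd (c a) (c b) : ℕ∞) := fun {a b} h hr => by
    apply WithBot.coe_injective
    exact (cd_spec c hc h fun t _ ht => hr t ht).symm.trans (coe_cd ((hsp a b).2 h))
  have hb : ∀ b, b ≤ m → ∀ t, t ⤳ c b → t ∈ Set.range c := fun b hbm t ht =>
    hrange t (hm ▸ ht.trans ((hsp b m).2 hbm))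
  have e1 := key (hqr.trans hrm) (hb m le_rfl)
  have e2 := key hqr (hb r hrm)
  have e3 := key hrm (hb m le_rfl)
  rw [hm] at e1 e3
  haveI : IsNoetherianRing R := hcat.1
  have hS := (hcat.2 R inferInstance).2
  have h := height_add_height_eq (α := ↥(Set.Ici q)) (q := ⟨r, hqr⟩) (p := ⟨m, hqr.trans hrm⟩)
    (fun s t h1 h2 hs ht => ?_) (fun a b ha hb' => ?_) hrm e1
  · rw [height_Ici_Ici hqr hrm, e1, e2, e3] at h
    have : cd (c q) (c r) + cd (c r) s = cd (c q) s := by exact_mod_cast h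
    omega
  · have hcov : ∀ a b : ↥(Set.Ici q), a ⋖ b → a.1 ⋖ b.1 := fun a b hab =>
      ⟨hab.lt, fun z hz hz' => hab.2 (show a < (⟨z, a.2.trans hz.le⟩ : ↥(Set.Ici q)) from hz) hz'⟩
    exact hS (s.map Subtype.val fun _ _ h => h) (t.map Subtype.val fun _ _ h => h) (congrArg Subtype.val h1)
      (congrArg Subtype.val h2) (fun i => hcov _ _ (hs i)) (fun i => hcov _ _ (ht i))
  · exact le_antisymm (height_eq_zero.1 ha (show (⟨q, Set.self_mem_Ici⟩ : ↥(Set.Ici q)) ≤ a from a.2) |>.trans b.2)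
      (height_eq_zero.1 hb' (show (⟨q, Set.self_mem_Ici⟩ : ↥(Set.Ici q)) ≤ b from b.2) |>.trans a.2)

theorem topologicalKrullDim_subset (T : Set X) [QuasiSober ↥T] :
    topologicalKrullDim ↥T = Order.krullDim ↥T := by
  refine (@Order.krullDim_eq_of_orderIso _ _ _ (specializationOrder ↥T).toPreorder
    (irreducibleSetEquivPoints (α := ↥T))).trans ?_
  exact @Order.krullDim_eq_of_orderIso _ _ (specializationOrder ↥T).toPreorder _
    (@RelIso.mk ↥T ↥T (fun a b => (specializationOrder ↥T).le a b) (fun a b => a ≤ b) (Equiv.refl _)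
      fun {a b} => (subtype_specializes_iff b a).symm)

/-- Generizations of `x` inside a closed set. -/
theorem topologicalKrullDim_gen [IsLocallyNoetherian X] {Z : Set X} (hZ : IsClosed Z) (x : X) :
    topologicalKrullDim ↥{t : X | t ∈ Z ∧ t ⤳ x} =
      ⨆ η : {η : X // η ∈ Z ∧ η ⤳ x}, ((cd η.1 x : ℕ∞) : WithBot ℕ∞) := by
  let T : Set X := {t : X | t ∈ Z ∧ t ⤳ x}
  let e : ↥((X.fromSpecStalk x) ⁻¹' Z) ≃ₜ ↥T :=
    ((X.fromSpecStalk x).isEmbedding.homeomorphImage _).trans (Homeomorph.setCongr (by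
      rw [Set.image_preimage_eq_inter_range, Scheme.range_fromSpecStalk]; rfl))
  haveI : QuasiSober ↥((X.fromSpecStalk x) ⁻¹' Z) :=
    (hZ.preimage (X.fromSpecStalk x).continuous).isClosedEmbedding_subtypeVal.quasiSober
  haveI : QuasiSober ↥T := e.symm.isClosedEmbedding.quasiSober
  refine le_antisymm ?_ ?_
  · rw [topologicalKrullDim_subset]
    refine iSup_le fun l => ?_
    have hh : (l.last : X) ⤳ x := l.last.2.2
    refine le_iSup_of_le ⟨l.last.1, l.last.2⟩ ?_
    let l' : LTSeries X := l.map Subtype.val fun a b hab => hab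
    by_cases he : (l.head : X) = x
    · exact_mod_cast le_cd hh l' he specializes_rfl
    · have hlt : x < l'.head := lt_of_le_not_ge (α := X) l.head.2.2 fun h' =>
        he (eq_of_specializes_of_specializes l.head.2.2 h')
      have := le_cd hh (l'.cons x hlt) (RelSeries.head_cons ..) (by rw [RelSeries.last_cons]; exact specializes_rfl)
      rw [RelSeries.cons_length] at this
      exact_mod_cast (show l.length ≤ cd (l.last : X) x from (Nat.le_succ _).trans this)
  · refine iSup_le fun η => ?_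
    obtain ⟨l, hl0, hl1, hl⟩ := exists_cd_series η.2.2
    have hmem : ∀ i, l i ∈ T := fun i =>
      ⟨(hl1.trans (LTSeries.monotone l (Fin.le_last i))).mem_closed hZ η.2.1, hl0 ▸ LTSeries.head_le l i⟩
    rw [topologicalKrullDim_subset]
    have := LTSeries.length_le_krullDim (LTSeries.mk l.length (fun i => (⟨l i, hmem i⟩ : ↥T)) fun i j hij => l.strictMono hij)
    rw [← hl]
    exact this

/-- Codimensions at closed points behave like a dimension. -/
structure DimGood (X : Scheme.{u}) : Prop where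
  add : ∀ ζ η s : X, η ⤳ s → ζ ⤳ η → IsClosed ({s} : Set X) → cd ζ s = cd η s + cd ζ η
  const : ∀ η s s' : X, (∀ z, z ⤳ η → z = η) → η ⤳ s → η ⤳ s' → IsClosed ({s} : Set X) →
    IsClosed ({s'} : Set X) → cd η s = cd η s'

/-- The dimension of `closure {x}`. -/
noncomputable def dd [IsLocallyNoetherian X] (x : X) : ℕ :=
  cd x (SchTop.exists_isClosed_specializes x).choose

theorem DimGood.dd_eq [IsLocallyNoetherian X] (h : DimGood X) {x s : X} (hs : x ⤳ s)
    (hc : IsClosed ({s} : Set X)) : dd x = cd x s := by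
  obtain ⟨h1, h2⟩ := (SchTop.exists_isClosed_specializes x).choose_spec
  obtain ⟨η, hη, hmax⟩ := FibDim.exists_maximal_generization x
  have e1 := h.add η x _ h1 hη h2
  have e2 := h.add η x s hs hη hc
  have e3 := h.const η _ s hmax (hη.trans h1) (hη.trans hs) h2 hc
  rw [dd]
  omega

theorem DimGood.dd_add [IsLocallyNoetherian X] (h : DimGood X) {x y : X} (hxy : x ⤳ y) :
    dd x = dd y + cd x y := by
  obtain ⟨s, hs, hc⟩ := SchTop.exists_isClosed_specializes y
  rw [h.dd_eq (hxy.trans hs) hc, h.dd_eq hs hc]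
  exact h.add x y s hs hxy hc

theorem DimGood.dd_le [IsLocallyNoetherian X] (h : DimGood X) {x y : X} (hxy : x ⤳ y) : dd y ≤ dd x := by
  rw [h.dd_add hxy]
  omega

/-- The dimension of the trace of an open set on a closed set. -/
theorem DimGood.topologicalKrullDim_inter [IsLocallyNoetherian X] [JacobsonSpace X] (h : DimGood X)
    {U Z : Set X} (hU : IsOpen U) (hZ : IsClosed Z) :
    topologicalKrullDim ↥(U ∩ Z) = ⨆ z : ↥(U ∩ Z), ((dd z.1 : ℕ∞) : WithBot ℕ∞) := by
  let W : X.Opens := ⟨U, hU⟩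
  haveI : QuasiSober ↥(W.ι ⁻¹' Z) := (hZ.preimage W.ι.continuous).isClosedEmbedding_subtypeVal.quasiSober
  let e : ↥(W.ι ⁻¹' Z) ≃ₜ ↥(U ∩ Z) :=
    (W.ι.isOpenEmbedding.isEmbedding.homeomorphImage _).trans (Homeomorph.setCongr (by
      rw [Set.image_preimage_eq_inter_range, Scheme.Opens.range_ι, Set.inter_comm]; rfl))
  haveI : QuasiSober ↥(U ∩ Z) := e.symm.isClosedEmbedding.quasiSober
  rw [topologicalKrullDim_subset]
  refine le_antisymm (iSup_le fun l => le_iSup_of_le l.last ?_) (iSup_le fun z => ?_)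
  · obtain ⟨s, hs, hc⟩ := SchTop.exists_isClosed_specializes (l.head : X)
    let l' : LTSeries X := l.map Subtype.val fun a b hab => hab
    have hls : (l.last : X) ⤳ (l.head : X) := LTSeries.head_le l (Fin.last _)
    have h1 := le_cd hls l' rfl specializes_rfl
    rw [h.dd_add hls]
    exact_mod_cast (show l.length ≤ _ from h1.trans (Nat.le_add_left _ _))
  · obtain ⟨s, ⟨⟨hsz, hsU⟩, hc⟩⟩ := nonempty_inter_closedPoints (Z := closure {z.1} ∩ U)
      ⟨z.1, subset_closure rfl, z.2.1⟩ (isClosed_closure.isLocallyClosed.inter hU.isLocallyClosed)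
    have hzs : z.1 ⤳ s := specializes_iff_mem_closure.2 hsz
    obtain ⟨l, hl0, hl1, hl⟩ := exists_cd_series hzs
    have hmem : ∀ i, l i ∈ U ∩ Z := fun i =>
      ⟨(show l i ⤳ s from hl0 ▸ LTSeries.head_le l i).mem_open hU hsU,
        (hl1.trans (LTSeries.monotone l (Fin.le_last i))).mem_closed hZ z.2.2⟩
    have := LTSeries.length_le_krullDim (LTSeries.mk l.length (fun i => (⟨l i, hmem i⟩ : ↥(U ∩ Z))) fun i j hij => l.strictMono hij)
    rw [h.dd_eq hzs hc, ← hl]
    exact this

theorem DimGood.topologicalKrullDim_eq [IsLocallyNoetherian X] [JacobsonSpace X] (h : DimGood X) {Z : Set X}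
    (hZ : IsClosed Z) : topologicalKrullDim ↥Z = ⨆ z : ↥Z, ((dd z.1 : ℕ∞) : WithBot ℕ∞) := by
  have := h.topologicalKrullDim_inter isOpen_univ hZ
  rwa [Set.univ_inter] at this

theorem dimGood_of [IsLocallyNoetherian X] (h2 : ∀ x : X, CAlg.IsUniversallyCatenary (X.presheaf.stalk x))
    (h3 : ∀ X' ∈ irreducibleComponents (X : Type u), ∀ x ∈ X', IsClosed ({x} : Set X) →
      topologicalKrullDim (↥X' : Type u) = topologicalKrullDim ↥{t : X | t ∈ X' ∧ t ⤳ x}) : DimGood X := by
  refine ⟨fun ζ η s hη hζ _ => cd_trans hη hζ (h2 s), fun η s s' hmax hs hs' hc hc' => ?_⟩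
  have key : ∀ s, η ⤳ s → IsClosed ({s} : Set X) →
      topologicalKrullDim ↥(closure {η}) = ((cd η s : ℕ∞) : WithBot ℕ∞) := fun s hs hc => by
    rw [h3 _ (FDescent.closure_mem_irreducibleComponents hmax) s (specializes_iff_mem_closure.1 hs) hc,
      topologicalKrullDim_gen isClosed_closure]
    refine le_antisymm (iSup_le fun t => ?_) (le_iSup_of_le ⟨η, subset_closure rfl, hs⟩ le_rfl)
    have := cd_add_cd_le t.2.2 (specializes_iff_mem_closure.2 t.2.1)
    exact_mod_cast (Nat.le_add_right _ _).trans this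
  have := (key s hs hc).symm.trans (key s' hs' hc')
  exact_mod_cast this

/-- The properties pass to schemes locally of finite type. -/
theorem dimGood_of_locallyOfFiniteType {S : Scheme.{u}} [IsLocallyNoetherian S] [JacobsonSpace S]
    (g : X ⟶ S) [LocallyOfFiniteType g] (hS : DimGood S)
    (h2 : ∀ s : S, CAlg.IsUniversallyCatenary (S.presheaf.stalk s)) :
    DimGood X ∧ ∀ x : X, (haveI := LocallyOfFiniteType.isLocallyNoetherian g; dd x) = dd (g x) + FibDim.rd g x := by
  haveI := LocallyOfFiniteType.isLocallyNoetherian g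
  have hcl : ∀ s, IsClosed ({s} : Set X) → IsClosed ({g s} : Set S) ∧ FibDim.rd g s = 0 := fun s hs => by
    refine ⟨g.closePoints_subset_preimage_closedPoints hs, ?_⟩
    have h1 : IsClosed ({g.asFiber s} : Set (g.fiber (g s))) := by
      have he : ({g.asFiber s} : Set (g.fiber (g s))) = g.fiberι (g s) ⁻¹' {s} := by
        ext z
        refine ⟨fun hz => ?_, fun hz => (g.fiberι (g s)).isEmbedding.injective (hz.trans (g.fiberι_asFiber s).symm)⟩
        rw [Set.mem_singleton_iff.1 hz]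
        exact g.fiberι_asFiber s
      rw [he]
      exact hs.preimage (g.fiberι (g s)).continuous
    exact (VarDim.closedPoint_iff_deg_eq_zero (k := S.residueField (g s)) (g.fiberToSpecResidueField (g s)) _).1 h1
  have key : ∀ η s : X, η ⤳ s → IsClosed ({s} : Set X) → cd η s = dd (g η) + FibDim.rd g η := fun η s hs hc => by
    have h1 := (cd_formula g hs).2 (h2 _)
    rw [(hcl s hc).2, add_zero] at h1
    rw [hS.dd_eq (hs.map g.continuous) (hcl s hc).1, h1]
  have hgood : DimGood X := ⟨fun ζ η s hη hζ hc => by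
      have h1 := (cd_formula g hζ).2 (h2 _)
      have h3 := hS.dd_add (hζ.map g.continuous)
      rw [key ζ s (hζ.trans hη) hc, key η s hη hc]
      omega,
    fun η s s' _ hs hs' hc hc' => by rw [key η s hs hc, key η s' hs' hc']⟩
  refine ⟨hgood, fun x => ?_⟩
  obtain ⟨s, hs, hc⟩ := SchTop.exists_isClosed_specializes x
  exact (hgood.dd_eq hs hc).trans (key x s hs hc)

theorem DimGood.dim_irreducible [IsLocallyNoetherian X] [JacobsonSpace X] [IrreducibleSpace X] (h : DimGood X) :
    topologicalKrullDim X = ((dd (genericPoint X) : ℕ∞) : WithBot ℕ∞) := by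
  rw [(Homeomorph.Set.univ X).symm.isHomeomorph.topologicalKrullDim_eq, h.topologicalKrullDim_eq isClosed_univ]
  refine le_antisymm (iSup_le fun z => ?_) (le_iSup_of_le ⟨genericPoint X, trivial⟩ le_rfl)
  exact_mod_cast h.dd_le ((genericPoint_spec X).specializes (Set.mem_univ z.1))

end Groth.Agent.DimFormula
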