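import Groth.Agent.DimFormula.Order
import Groth.Agent.FibDim.BaseChange
import Groth.Prelude.Def_Found
import Mathlib.RingTheory.Ideal.KrullsHeightTheorem
import Mathlib.RingTheory.MvPolynomial.Localization
import Mathlib.RingTheory.Flat.Stability

/-!
# The dimension inequality and the dimension formula
-/

set_option autoImplicit false
set_option linter.style.haveILetI false

open TensorProduct Order

namespace Groth.Agent.DimFormula

universe u

variable (A : Type u) {B : Type u} [CommRing A] [CommRing B] [Algebra A B]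

/-- The dimension of the fibre of `B/P` over the contraction of `P`. -/
noncomputable def fd (P : Ideal B) [P.IsPrime] : ℕ :=
  ((ringKrullDim ((P.under A).Fiber (B ⧸ P))).unbotD 0).toNat

variable [Algebra.FiniteType A B]

theorem coe_fd (P : Ideal B) [P.IsPrime] :
    ringKrullDim ((P.under A).Fiber (B ⧸ P)) = (fd A P : WithBot ℕ∞) := by
  haveI : IsDomain ((P.under A).Fiber (B ⧸ P)) := FibDim.isDomain_fiber_quotient P
  obtain ⟨d, hd, -⟩ := VarDim.exists_dim_eq_trdeg (k := (P.under A).ResidueField) ((P.under A).Fiber (B ⧸ P))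
  rw [fd, hd]
  rfl

theorem le_fd_iff (P : Ideal B) [P.IsPrime] (n : ℕ) :
    n ≤ fd A P ↔ ∃ t : Fin n → B, FibDim.IndepMod (A := A) t P := by
  rw [← FibDim.le_dim_fiber_quotient_iff, coe_fd]
  norm_cast

theorem fd_comap_of_surjective {C : Type u} [CommRing C] [Algebra A C] [Algebra.FiniteType A C]
    (π : C →ₐ[A] B) (hπ : Function.Surjective π) (P : Ideal B) [P.IsPrime] :
    fd A (P.comap π.toRingHom) = fd A P := by
  have hu : (P.comap π.toRingHom).under A = P.under A := by
    ext a
    simp [Ideal.mem_comap]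
  have key : ∀ {n : ℕ} (s : Fin n → C), FibDim.IndepMod (A := A) s (P.comap π.toRingHom) ↔
      FibDim.IndepMod (A := A) (fun i => π (s i)) P := fun s => by
    rw [FibDim.IndepMod, FibDim.IndepMod, hu]
    simp only [Ideal.mem_comap, AlgHom.toRingHom_eq_coe, RingHom.coe_coe, MvPolynomial.comp_aeval_apply]
  refine eq_of_forall_le_iff fun n => ?_
  rw [le_fd_iff, le_fd_iff]
  refine ⟨fun ⟨s, hs⟩ => ⟨_, (key s).1 hs⟩, fun ⟨t, ht⟩ => ?_⟩
  choose s hs using fun i => hπ (t i)
  exact ⟨s, (key s).2 (by simpa only [hs] using ht)⟩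

theorem height_Ici_comap {C : Type u} [CommRing C] (π : C →+* B) (hπ : Function.Surjective π)
    (Q : PrimeSpectrum C) (hQ : RingHom.ker π = Q.asIdeal) (P : PrimeSpectrum B)
    (h : Q ≤ PrimeSpectrum.comap π P) :
    height (⟨PrimeSpectrum.comap π P, h⟩ : ↥(Set.Ici Q)) = height P := by
  have hge : ∀ R : PrimeSpectrum B, Q ≤ PrimeSpectrum.comap π R := fun R =>
    (show Q.asIdeal ≤ R.asIdeal.comap π from hQ.symm.le.trans (Ideal.ker_le_comap π))
  refine (height_eq_of_strictMono (fun R => (⟨PrimeSpectrum.comap π R, hge R⟩ : ↥(Set.Ici Q)))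
    (fun a b hab => RingHom.strictMono_comap_of_surjective hπ hab) (fun a b hb => ?_) P).symm
  obtain ⟨R, hR⟩ : b.1 ∈ Set.range (PrimeSpectrum.comap π) := by
    rw [_root_.range_comap_of_surjective _ _ hπ, hQ]
    exact b.2
  refine ⟨R, ?_, Subtype.ext hR⟩
  have hb' : PrimeSpectrum.comap π R < PrimeSpectrum.comap π a := by rw [hR]; exact hb
  refine lt_of_le_of_ne ?_ (fun e => hb'.ne (congrArg _ e))
  exact (Ideal.comap_le_comap_iff_of_surjective π hπ _ _).1 hb'.le

/-- The dimension formula in a polynomial ring. -/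
theorem height_add_fd_mvPolynomial [IsNoetherianRing A] {m : ℕ} (P : PrimeSpectrum (MvPolynomial (Fin m) A)) :
    height P + (fd A P.asIdeal : ℕ∞) =
      height (PrimeSpectrum.comap (algebraMap A (MvPolynomial (Fin m) A)) P) + m := by
  let T := MvPolynomial (Fin m) A
  let p : PrimeSpectrum A := PrimeSpectrum.comap (algebraMap A T) P
  let Fib : Type u := ↥(PrimeSpectrum.comap (algebraMap A T) ⁻¹' {p})
  let P' : Fib := ⟨P, rfl⟩
  let e := PrimeSpectrum.preimageOrderIsoFiber A T p
  let ε : p.asIdeal.Fiber T ≃ₐ[p.asIdeal.ResidueField] MvPolynomial (Fin m) p.asIdeal.ResidueField :=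
    MvPolynomial.algebraTensorAlgEquiv A p.asIdeal.ResidueField
  haveI : IsDomain (p.asIdeal.Fiber T) := ε.toMulEquiv.isDomain
  have hdim : ringKrullDim (p.asIdeal.Fiber T) = m := by
    rw [ringKrullDim_eq_of_ringEquiv ε.toRingEquiv, MvPolynomial.ringKrullDim_of_isNoetherianRing,
      ringKrullDim_eq_zero_of_field, zero_add]
    simp
  have h1 : height P' + coheight P' = m := by
    rw [← height_orderIso e P', ← coheight_orderIso e P']
    exact VarDim.height_add_coheight_eq p.asIdeal.ResidueField m _ hdim _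
  -- the part of the fibre above `P`
  have h2 : coheight P' = (fd A P.asIdeal : ℕ∞) := by
    have hd : ringKrullDim (p.asIdeal.Fiber (T ⧸ P.asIdeal)) = (fd A P.asIdeal : WithBot ℕ∞) :=
      coe_fd A P.asIdeal
    rw [ringKrullDim, ← Order.krullDim_eq_of_orderIso
      (PrimeSpectrum.preimageOrderIsoFiber A (T ⧸ P.asIdeal) p)] at hd
    apply WithBot.coe_injective
    rw [coheight_eq_krullDim_Ici]
    refine Eq.trans ?_ hd
    let π : T →+* T ⧸ P.asIdeal := Ideal.Quotient.mk _
    have hπ : Function.Surjective π := Ideal.Quotient.mk_surjective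
    have hge : ∀ R : PrimeSpectrum (T ⧸ P.asIdeal), P ≤ PrimeSpectrum.comap π R := fun R =>
      show P.asIdeal ≤ R.asIdeal.comap π from Ideal.mk_ker.symm.le.trans (Ideal.ker_le_comap π)
    let g : ↥(PrimeSpectrum.comap (algebraMap A (T ⧸ P.asIdeal)) ⁻¹' {p}) → ↥(Set.Ici P') := fun R =>
      ⟨⟨PrimeSpectrum.comap π R.1, (PrimeSpectrum.comap_comp_apply (algebraMap A T) π R.1).symm.trans R.2⟩,
        hge R.1⟩
    have hg : Function.Bijective g := by
      refine ⟨fun R R' h => Subtype.ext (PrimeSpectrum.comap_injective_of_surjective π hπ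
        (congrArg (fun z : ↥(Set.Ici P') => z.1.1) h)), fun b => ?_⟩
      obtain ⟨R, hR⟩ : b.1.1 ∈ Set.range (PrimeSpectrum.comap π) := by
        rw [_root_.range_comap_of_surjective _ _ hπ, Ideal.mk_ker]
        exact b.2
      refine ⟨⟨R, ?_⟩, Subtype.ext (Subtype.ext hR)⟩
      exact ((PrimeSpectrum.comap_comp_apply (algebraMap A T) π R).trans
        (congrArg (PrimeSpectrum.comap (algebraMap A T)) hR)).trans b.1.2
    refine (Order.krullDim_eq_of_orderIso ⟨Equiv.ofBijective g hg, ?_⟩).symm
    intro R R'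
    exact Ideal.comap_le_comap_iff_of_surjective π hπ _ _
  -- the part of the fibre below `P`
  have h3 : height P = height p + height P' := by
    haveI : P.asIdeal.LiesOver p.asIdeal := ⟨rfl⟩
    have := Ideal.height_eq_height_add_of_liesOver_of_hasGoingDown p.asIdeal P.asIdeal
    rw [P.height_eq_orderHeight, p.height_eq_orderHeight] at this
    rw [this]
    congr 1
    let I := p.asIdeal.map (algebraMap A T)
    let π : T →+* T ⧸ I := Ideal.Quotient.mk I
    have hπ : Function.Surjective π := Ideal.Quotient.mk_surjective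
    have hI : ∀ R : Fib, I ≤ R.1.asIdeal := fun R =>
      Ideal.map_le_iff_le_comap.2 (congrArg PrimeSpectrum.asIdeal R.2).ge
    let g : Fib → PrimeSpectrum (T ⧸ I) := fun R =>
      ⟨R.1.asIdeal.map π, Ideal.map_isPrime_of_surjective hπ (by rw [Ideal.mk_ker]; exact hI R)⟩
    have hcg : ∀ R, (g R).asIdeal.comap π = R.1.asIdeal := fun R =>
      (Ideal.comap_map_of_surjective π hπ _).trans (sup_eq_left.2 ((Ideal.mk_ker (I := I)).le.trans (hI R)))
    have hgP : (g P').asIdeal.height = height (g P') := (g P').height_eq_orderHeight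
    refine Eq.trans hgP (height_eq_of_strictMono g (fun a b hab => ?_) (fun a b hb => ?_) P').symm
    · refine lt_of_le_of_ne (Ideal.map_mono hab.le) fun h => hab.ne ?_
      exact Subtype.ext (PrimeSpectrum.ext (by rw [← hcg a, ← hcg b, h]))
    · have hle : PrimeSpectrum.comap π b ≤ a.1 := (Ideal.comap_mono hb.le).trans (hcg a).le
      have hover : PrimeSpectrum.comap (algebraMap A T) (PrimeSpectrum.comap π b) = p := by
        refine le_antisymm ?_ ?_
        · exact (Ideal.comap_mono hle).trans (congrArg PrimeSpectrum.asIdeal a.2).le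
        · refine fun x hx => ?_
          show π (algebraMap A T x) ∈ b.asIdeal
          rw [Ideal.Quotient.eq_zero_iff_mem.2 (Ideal.mem_map_of_mem _ hx)]
          exact zero_mem _
      refine ⟨⟨_, hover⟩, lt_of_le_of_ne hle fun h => hb.ne ?_,
        PrimeSpectrum.ext (Ideal.map_comap_of_surjective π hπ _)⟩
      rw [← h]
      exact PrimeSpectrum.ext (Ideal.map_comap_of_surjective π hπ _).symm
  rw [h3, ← h2, add_assoc, h1]

theorem height_bot_eq_zero {C : Type u} [CommRing C] [IsDomain C] :
    height (⟨⊥, Ideal.isPrime_bot⟩ : PrimeSpectrum C) = 0 :=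
  height_eq_zero.2 fun _ _ => show ⊥ ≤ _ from bot_le

theorem height_ne_top [IsNoetherianRing B] (P : PrimeSpectrum B) : height P ≠ ⊤ := by
  rw [← PrimeSpectrum.height_eq_orderHeight]
  exact Ideal.height_ne_top P.isPrime.ne_top

/-- The primes below a prime of the polynomial ring, in the localised polynomial ring. -/
theorem height_add_height_Ici_mvPolynomial [IsDomain A] {m : ℕ} {Q P : PrimeSpectrum (MvPolynomial (Fin m) A)}
    (h : Q ≤ P) (p : Ideal A) [p.IsPrime] (hp : P.asIdeal.under A = p)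
    (hA : CAlg.IsUniversallyCatenary (Localization.AtPrime p)) :
    height Q + height (⟨P, h⟩ : ↥(Set.Ici Q)) = height P := by
  let Ap := Localization.AtPrime p
  haveI : IsNoetherianRing Ap := hA.1
  haveI : IsDomain Ap := IsLocalization.isDomain_localization p.primeCompl_le_nonZeroDivisors
  let T := MvPolynomial (Fin m) A
  let T' := MvPolynomial (Fin m) Ap
  letI : Algebra T T' := MvPolynomial.algebraMvPolynomial
  haveI : IsLocalization (p.primeCompl.map MvPolynomial.C) T' := MvPolynomial.isLocalization _ _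
  let c : PrimeSpectrum T' → PrimeSpectrum T := PrimeSpectrum.comap (algebraMap T T')
  have hle : ∀ R R', c R ≤ c R' ↔ R ≤ R' := fun R R' => by
    refine ⟨fun hh => ?_, fun hh => Ideal.comap_mono hh⟩
    have := Ideal.map_mono (f := algebraMap T T') hh
    rwa [PrimeSpectrum.comap_asIdeal, PrimeSpectrum.comap_asIdeal, IsLocalization.map_under (p.primeCompl.map MvPolynomial.C),
      IsLocalization.map_under (p.primeCompl.map MvPolynomial.C)] at this
  have hmono : StrictMono c := fun a b hab =>
    lt_of_le_of_ne ((hle a b).2 hab.le) fun e => hab.not_ge ((hle b a).1 e.ge)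
  have hrange : ∀ R, R ≤ P → R ∈ Set.range c := fun R hR => by
    rw [PrimeSpectrum.localization_comap_range T' (p.primeCompl.map MvPolynomial.C)]
    refine Set.disjoint_left.2 ?_
    rintro _ ⟨s, hs, rfl⟩ hsR
    exact hs (hp ▸ (Ideal.mem_comap.2 (hR hsR) : s ∈ P.asIdeal.under A))
  obtain ⟨Q', hQ'⟩ := hrange Q h
  obtain ⟨P', hP'⟩ := hrange P le_rfl
  subst hQ' hP'
  have hQP : Q' ≤ P' := (hle _ _).1 h
  have h1 : ∀ a, a ≤ P' → height a = height (c a) := fun a ha => by
    refine le_antisymm (height_le_height_apply_of_strictMono _ hmono a) ?_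
    refine height_le fun l hl => ?_
    choose g hg using fun i => hrange (l i) ((LTSeries.monotone l (Fin.le_last i)).trans
      (by show l.last ≤ c P'; rw [hl]; exact (hle _ _).2 ha))
    let l' : LTSeries (PrimeSpectrum T') := LTSeries.mk l.length g fun i j hij => by
      have := l.strictMono hij
      rw [← hg i, ← hg j] at this
      exact lt_of_le_not_ge ((hle _ _).1 this.le) fun hh => this.not_ge ((hle _ _).2 hh)
    refine le_trans (le_of_eq rfl) (length_le_height (p := l') ?_)
    exact ((hle _ _).1 ((hg _).trans hl).le)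
  have h2 : height (⟨P', hQP⟩ : ↥(Set.Ici Q')) = height (⟨c P', h⟩ : ↥(Set.Ici (c Q'))) := by
    let g : ↥(Set.Iic (⟨P', hQP⟩ : ↥(Set.Ici Q'))) → ↥(Set.Iic (⟨c P', h⟩ : ↥(Set.Ici (c Q')))) :=
      fun R => ⟨⟨c R.1.1, (hle _ _).2 R.1.2⟩, (hle _ _).2 R.2⟩
    apply WithBot.coe_injective
    rw [height_eq_krullDim_Iic, height_eq_krullDim_Iic]
    refine Order.krullDim_eq_of_orderIso ⟨Equiv.ofBijective g ⟨fun R R' hh => ?_, fun b => ?_⟩, ?_⟩
    · have he : c R.1.1 = c R'.1.1 := congrArg (fun z : ↥(Set.Iic (⟨c P', h⟩ : ↥(Set.Ici (c Q')))) => z.1.1) hh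
      exact Subtype.ext (Subtype.ext (le_antisymm ((hle _ _).1 he.le) ((hle _ _).1 he.ge)))
    · obtain ⟨R, hR⟩ := hrange b.1.1 b.2
      refine ⟨⟨⟨R, (hle _ _).1 (hR ▸ b.1.2)⟩, (hle R P').1 (hR ▸ b.2)⟩, Subtype.ext (Subtype.ext hR)⟩
    · intro R R'
      exact hle _ _
  rw [← h1 Q' hQP, ← h1 P' le_rfl, ← h2]
  obtain ⟨n, hn⟩ := ENat.ne_top_iff_exists.1 (height_ne_top P')
  refine height_add_height_eq (hA.2 T' inferInstance).2 (fun a b ha hb => ?_) hQP hn.symm
  have hbot : ∀ a : PrimeSpectrum T', height a = 0 → a = ⟨⊥, Ideal.isPrime_bot⟩ := fun a ha =>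
    le_antisymm (height_eq_zero.1 ha (show ⊥ ≤ a.asIdeal from bot_le)) (show ⊥ ≤ a.asIdeal from bot_le)
  rw [hbot a ha, hbot b hb]

/-- The dimension inequality, and the dimension formula in the universally catenary case. -/
theorem dimension_formula [IsDomain A] [IsDomain B] [FaithfulSMul A B] [IsNoetherianRing A]
    (P : PrimeSpectrum B) :
    height P + (fd A P.asIdeal : ℕ∞) ≤
        height (PrimeSpectrum.comap (algebraMap A B) P) + (fd A (⊥ : Ideal B) : ℕ∞) ∧
    (CAlg.IsUniversallyCatenary (Localization.AtPrime (P.asIdeal.under A)) →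
      height P + (fd A P.asIdeal : ℕ∞) =
        height (PrimeSpectrum.comap (algebraMap A B) P) + (fd A (⊥ : Ideal B) : ℕ∞)) := by
  obtain ⟨m, π, hπ⟩ := Algebra.FiniteType.iff_quotient_mvPolynomial''.1 ‹Algebra.FiniteType A B›
  let T := MvPolynomial (Fin m) A
  let Q : PrimeSpectrum T := PrimeSpectrum.comap π.toRingHom ⟨⊥, Ideal.isPrime_bot⟩
  let P₀ : PrimeSpectrum T := PrimeSpectrum.comap π.toRingHom P
  have hQP : Q ≤ P₀ := Ideal.comap_mono bot_le
  have hover : ∀ R : PrimeSpectrum B, PrimeSpectrum.comap (algebraMap A T) (PrimeSpectrum.comap π.toRingHom R) =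
      PrimeSpectrum.comap (algebraMap A B) R := fun R => by
    rw [← PrimeSpectrum.comap_comp_apply, AlgHom.toRingHom_eq_coe, AlgHom.comp_algebraMap]
  have hQA : height (PrimeSpectrum.comap (algebraMap A T) Q) = 0 := by
    rw [hover, show PrimeSpectrum.comap (algebraMap A B) ⟨⊥, Ideal.isPrime_bot⟩ = ⟨⊥, Ideal.isPrime_bot⟩ from
      PrimeSpectrum.ext ((RingHom.ker_eq_comap_bot _).symm.trans
        ((RingHom.injective_iff_ker_eq_bot _).1 (FaithfulSMul.algebraMap_injective A B))), height_bot_eq_zero]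
  have hfQ : fd A Q.asIdeal = fd A (⊥ : Ideal B) := fd_comap_of_surjective A π hπ ⊥
  have hfP : fd A P₀.asIdeal = fd A P.asIdeal := fd_comap_of_surjective A π hπ P.asIdeal
  have e1 := height_add_fd_mvPolynomial A Q
  rw [hQA, zero_add, hfQ] at e1
  have e2 := height_add_fd_mvPolynomial A P₀
  rw [hfP, hover] at e2
  have hht : height (⟨P₀, hQP⟩ : ↥(Set.Ici Q)) = height P :=
    height_Ici_comap π.toRingHom hπ Q (RingHom.ker_eq_comap_bot _) P hQP
  have hfin : height Q ≠ ⊤ := height_ne_top Q
  have step : height Q + (height P + (fd A P.asIdeal : ℕ∞)) ≤ height Q +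
      (height (PrimeSpectrum.comap (algebraMap A B) P) + (fd A (⊥ : Ideal B) : ℕ∞)) := by
    rw [← add_assoc, ← hht]
    refine (add_le_add (height_add_height_le hQP) le_rfl).trans ?_
    rw [e2, add_comm (height Q), add_assoc, add_comm (fd A (⊥ : Ideal B) : ℕ∞), e1]
  refine ⟨(ENat.add_le_add_iff_left hfin).1 step, fun hA => ?_⟩
  have hu : P₀.asIdeal.under A = P.asIdeal.under A := congrArg PrimeSpectrum.asIdeal (hover P)
  have heq := height_add_height_Ici_mvPolynomial A hQP (P.asIdeal.under A) hu hA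
  rw [hht] at heq
  refine le_antisymm ((ENat.add_le_add_iff_left hfin).1 step) ((ENat.add_le_add_iff_left hfin).1 ?_)
  rw [← add_assoc (height Q) (height P), heq, e2, add_comm (height Q), add_assoc,
    add_comm (fd A (⊥ : Ideal B) : ℕ∞), e1]

end Groth.Agent.DimFormula
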