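import Groth.Agent.DimFormula.Basic
import Mathlib.AlgebraicGeometry.Properties
import Mathlib.AlgebraicGeometry.Stalk
import Mathlib.AlgebraicGeometry.Noetherian
import Mathlib.Topology.Sober

/-!
# Relative codimensions of points of locally Noetherian schemes
-/

set_option autoImplicit false
set_option linter.style.haveILetI false

open AlgebraicGeometry CategoryTheory Order Topology

namespace Groth.Agent.DimFormula

universe u

variable {X : Scheme.{u}}

/-- The codimension of `closure {x}` in `closure {η}`. -/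
noncomputable def cd (η x : X) : ℕ := ((Order.krullDim ↥(Set.Icc x η)).unbotD 0).toNat

/-- The dimension of the local ring at `x`. -/
noncomputable def codim (x : X) : ℕ := (coheight x).toNat

theorem le_def' {x y : X} : x ≤ y ↔ y ⤳ x := Iff.rfl

theorem eq_of_specializes_of_specializes {x y : X} (h : x ⤳ y) (h' : y ⤳ x) : x = y := (h.antisymm h').eq

theorem coheight_ne_top [IsLocallyNoetherian X] (x : X) : coheight x ≠ ⊤ := by
  have h : ringKrullDim (X.presheaf.stalk x) < ⊤ := ringKrullDim_lt_top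
  rw [ringKrullDim_stalk_eq_coheight] at h
  exact (WithBot.coe_lt_coe.mp h).ne

theorem coe_codim [IsLocallyNoetherian X] (x : X) : ((codim x : ℕ) : ℕ∞) = coheight x :=
  ENat.coe_toNat (coheight_ne_top x)

theorem ringKrullDim_stalk [IsLocallyNoetherian X] (x : X) :
    ringKrullDim (X.presheaf.stalk x) = (codim x : WithBot ℕ∞) := by
  rw [ringKrullDim_stalk_eq_coheight, ← coe_codim]
  rfl

theorem krullDim_Icc_le (η x : X) : Order.krullDim ↥(Set.Icc x η) ≤ (coheight x : WithBot ℕ∞) := by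
  rw [coheight_eq_krullDim_Ici]
  exact Order.krullDim_le_of_strictMono (fun t => (⟨t.1, t.2.1⟩ : ↥(Set.Ici x))) fun _ _ h => h

theorem coe_cd [IsLocallyNoetherian X] {η x : X} (h : η ⤳ x) :
    Order.krullDim ↥(Set.Icc x η) = (cd η x : WithBot ℕ∞) := by
  haveI : Nonempty ↥(Set.Icc x η) := ⟨⟨x, le_rfl, h⟩⟩
  obtain ⟨d, hd⟩ := WithBot.ne_bot_iff_exists.1 (Order.krullDim_ne_bot_iff.2 ‹Nonempty ↥(Set.Icc x η)›)
  have hle := krullDim_Icc_le η x
  rw [← hd, WithBot.coe_le_coe] at hle
  rw [cd, ← hd]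
  show _ = ((WithBot.unbotD 0 (d : WithBot ℕ∞)).toNat : WithBot ℕ∞)
  rw [WithBot.unbotD_coe]
  exact congrArg _ (ENat.coe_toNat (ne_top_of_le_ne_top (coheight_ne_top x) hle)).symm

theorem cd_le_codim [IsLocallyNoetherian X] {η x : X} (h : η ⤳ x) : cd η x ≤ codim x := by
  have := krullDim_Icc_le η x
  rw [coe_cd h, ← coe_codim] at this
  exact_mod_cast this

theorem le_cd [IsLocallyNoetherian X] {η x : X} (h : η ⤳ x) (l : LTSeries X) (h0 : l.head = x)
    (h1 : η ⤳ l.last) : l.length ≤ cd η x := by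
  have hle : ((LTSeries.mk l.length (fun i => (⟨l i, h0.symm.le.trans (LTSeries.head_le l i),
      (LTSeries.monotone l (Fin.le_last i)).trans h1⟩ : ↥(Set.Icc x η))) fun i j hij => l.strictMono hij).length :
        WithBot ℕ∞) ≤ Order.krullDim ↥(Set.Icc x η) := LTSeries.length_le_krullDim _
  rw [coe_cd h] at hle
  exact_mod_cast hle

theorem exists_cd_series [IsLocallyNoetherian X] {η x : X} (h : η ⤳ x) :
    ∃ l : LTSeries X, l.head = x ∧ η ⤳ l.last ∧ l.length = cd η x := by
  haveI : Nonempty ↥(Set.Icc x η) := ⟨⟨x, le_rfl, h⟩⟩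
  obtain ⟨l, hl⟩ : ∃ l : LTSeries ↥(Set.Icc x η), l.length = cd η x := by
    by_contra hne
    push Not at hne
    have hlt : ∀ l : LTSeries ↥(Set.Icc x η), l.length + 1 ≤ cd η x := fun l => by
      have := LTSeries.length_le_krullDim l
      rw [coe_cd h] at this
      have : l.length ≤ cd η x := by exact_mod_cast this
      exact lt_of_le_of_ne this (hne l)
    have := hlt (RelSeries.singleton _ ⟨x, le_rfl, h⟩)
    have hle : Order.krullDim ↥(Set.Icc x η) ≤ ((cd η x - 1 : ℕ) : WithBot ℕ∞) :=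
      iSup_le fun l => by
        have := hlt l
        exact_mod_cast (show l.length ≤ cd η x - 1 by omega)
    rw [coe_cd h] at hle
    have : cd η x ≤ cd η x - 1 := by exact_mod_cast hle
    have := hne (RelSeries.singleton _ ⟨x, le_rfl, h⟩)
    omega
  by_cases hx : (l.head : X) = x
  · exact ⟨l.map Subtype.val fun _ _ h => h, hx, l.last.2.2, hl⟩
  · exfalso
    have hlt : (⟨x, le_rfl, h⟩ : ↥(Set.Icc x η)) < l.head :=
      lt_of_le_not_ge (α := X) l.head.2.1 fun h' => hx (eq_of_specializes_of_specializes l.head.2.1 h')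
    have := LTSeries.length_le_krullDim (l.cons _ hlt)
    rw [coe_cd h, RelSeries.cons_length, hl] at this
    have : cd η x + 1 ≤ cd η x := by exact_mod_cast this
    omega

theorem cd_self [IsLocallyNoetherian X] (x : X) : cd x x = 0 := by
  obtain ⟨l, hl0, hl1, hl⟩ := exists_cd_series (specializes_refl x)
  by_contra hne
  have hlt : l.head < l.last := l.strictMono (show (0 : Fin (l.length + 1)) < Fin.last _ by
    rw [Fin.lt_def]; simp; omega)
  rw [hl0] at hlt
  exact hlt.not_ge hl1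

theorem cd_eq_zero_iff [IsLocallyNoetherian X] {η x : X} (h : η ⤳ x) : cd η x = 0 ↔ η = x := by
  refine ⟨fun h0 => ?_, fun he => he ▸ cd_self η⟩
  by_contra hne
  have hlt : x < η := lt_of_le_not_ge (α := X) h fun h' => hne (eq_of_specializes_of_specializes h h')
  have := le_cd h ((RelSeries.singleton _ η).cons x hlt) (RelSeries.head_cons ..)
    (by rw [RelSeries.last_cons]; rfl)
  simp [RelSeries.cons_length, h0] at this

theorem cd_add_cd_le [IsLocallyNoetherian X] {ζ η x : X} (h : η ⤳ x) (h' : ζ ⤳ η) :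
    cd η x + cd ζ η ≤ cd ζ x := by
  obtain ⟨l, hl0, hl1, hl⟩ := exists_cd_series h
  obtain ⟨m, hm0, hm1, hm⟩ := exists_cd_series h'
  by_cases he : l.last = η
  · have := le_cd (h'.trans h) (l.smash m (he.trans hm0.symm)) (by rw [RelSeries.head_smash]; exact hl0)
      (by rw [RelSeries.last_smash]; exact hm1)
    rw [RelSeries.smash_length, hl, hm] at this
    exact this
  · have hlt : l.last < η := lt_of_le_not_ge (α := X) hl1 fun h'' => he (eq_of_specializes_of_specializes h'' hl1)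
    have := le_cd h (l.snoc η hlt) (by rw [RelSeries.head_snoc]; exact hl0) (by rw [RelSeries.last_snoc])
    rw [RelSeries.snoc_length, hl] at this
    omega

theorem exists_maximal_cd_eq_codim [IsLocallyNoetherian X] (x : X) :
    ∃ η, η ⤳ x ∧ (∀ z, z ⤳ η → z = η) ∧ cd η x = codim x := by
  obtain ⟨l, hl0, hl⟩ := exists_series_of_coheight_eq_coe x (coe_codim x).symm
  have hx : l.last ⤳ x := hl0 ▸ LTSeries.head_le l (Fin.last _)
  have hmax : ∀ z, z ⤳ l.last → z = l.last := fun z hz => by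
    by_contra hne
    have hlt : l.last < z := lt_of_le_not_ge (α := X) hz fun h'' => hne (eq_of_specializes_of_specializes hz h'')
    have := length_le_coheight (p := l.snoc z hlt) (show x ≤ (l.snoc z hlt).head by rw [RelSeries.head_snoc, hl0])
    rw [RelSeries.snoc_length, hl, ← coe_codim] at this
    have : codim x + 1 ≤ codim x := by exact_mod_cast this
    omega
  refine ⟨l.last, hx, hmax, le_antisymm (cd_le_codim hx) ?_⟩
  rw [← hl]
  exact le_cd hx l hl0 (specializes_refl _)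

theorem codim_mono_add [IsLocallyNoetherian X] {η x : X} (h : η ⤳ x) : cd η x + codim η ≤ codim x := by
  obtain ⟨ζ, hζ, -, he⟩ := exists_maximal_cd_eq_codim η
  rw [← he]
  exact (cd_add_cd_le h hζ).trans (cd_le_codim (hζ.trans h))

theorem codim_eq_zero_iff [IsLocallyNoetherian X] {x : X} : codim x = 0 ↔ ∀ z, z ⤳ x → z = x := by
  refine ⟨fun h z hz => ?_, fun h => ?_⟩
  · exact (cd_eq_zero_iff hz).1 (Nat.le_zero.1 (h ▸ cd_le_codim hz))
  · obtain ⟨η, hη, -, he⟩ := exists_maximal_cd_eq_codim x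
    rw [← he, cd_eq_zero_iff hη]
    exact h η hη

theorem cd_eq_codim_of_irreducible [IsLocallyNoetherian X] [IrreducibleSpace X] (x : X) :
    cd (genericPoint X) x = codim x := by
  obtain ⟨η, -, hmax, he⟩ := exists_maximal_cd_eq_codim x
  rwa [hmax _ ((genericPoint_spec X).specializes (Set.mem_univ η))]

/-- Intervals are unchanged by embeddings with locally closed-under-intervals range. -/
theorem cd_eq_of_embedding {W : Scheme.{u}} (j : W → X) (hj : IsEmbedding j) {η x : W}
    (hrange : ∀ t, j η ⤳ t → t ⤳ j x → t ∈ Set.range j) : cd (j η) (j x) = cd η x := by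
  have hle : ∀ a b : W, j a ⤳ j b ↔ a ⤳ b := fun a b => hj.isInducing.specializes_iff
  let g : ↥(Set.Icc x η) → ↥(Set.Icc (j x) (j η)) := fun t => ⟨j t.1, (hle _ _).2 t.2.1, (hle _ _).2 t.2.2⟩
  have hg : Function.Bijective g := by
    refine ⟨fun a b hab => Subtype.ext (hj.injective (congrArg Subtype.val hab)), fun b => ?_⟩
    obtain ⟨a, ha⟩ := hrange b.1 b.2.2 b.2.1
    exact ⟨⟨a, (hle _ _).1 (ha ▸ b.2.1), (hle _ _).1 (ha ▸ b.2.2)⟩, Subtype.ext ha⟩
  rw [cd, cd, Order.krullDim_eq_of_orderIso (⟨Equiv.ofBijective g hg, fun {a b} => hle b.1 a.1⟩ :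
    ↥(Set.Icc x η) ≃o ↥(Set.Icc (j x) (j η)))]

/-- Intervals in an affine chart. -/
theorem cd_spec {C : Type u} [CommRing C] (j : PrimeSpectrum C → X) (hj : IsEmbedding j)
    {Q P : PrimeSpectrum C} (h : Q ≤ P) (hrange : ∀ t, j Q ⤳ t → t ⤳ j P → t ∈ Set.range j) :
    Order.krullDim ↥(Set.Icc (j P) (j Q)) = (height (⟨P, h⟩ : ↥(Set.Ici Q)) : WithBot ℕ∞) := by
  have hle : ∀ a b, j a ⤳ j b ↔ a ≤ b := fun a b =>
    hj.isInducing.specializes_iff.trans (PrimeSpectrum.le_iff_specializes a b).symm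
  let g : (↥(Set.Iic (⟨P, h⟩ : ↥(Set.Ici Q))))ᵒᵈ → ↥(Set.Icc (j P) (j Q)) := fun t =>
    ⟨j (OrderDual.ofDual t).1.1, (hle _ _).2 (OrderDual.ofDual t).2, (hle _ _).2 (OrderDual.ofDual t).1.2⟩
  have hg : Function.Bijective g := by
    refine ⟨fun a b hab => OrderDual.ofDual.injective (Subtype.ext (Subtype.ext
      (hj.injective (congrArg Subtype.val hab)))), fun b => ?_⟩
    obtain ⟨a, ha⟩ := hrange b.1 b.2.2 b.2.1
    exact ⟨OrderDual.toDual ⟨⟨a, (hle _ _).1 (ha ▸ b.2.2)⟩, (hle a P).1 (ha ▸ b.2.1)⟩, Subtype.ext ha⟩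
  rw [height_eq_krullDim_Iic, ← krullDim_orderDual (α := ↥(Set.Iic (⟨P, h⟩ : ↥(Set.Ici Q))))]
  refine (Order.krullDim_eq_of_orderIso ⟨Equiv.ofBijective g hg, fun {a b} => ?_⟩).symm
  exact hle _ _

theorem fromSpecStalk_range_of_specializes {x t : X} (h : t ⤳ x) : t ∈ Set.range (X.fromSpecStalk x) := by
  rw [Scheme.range_fromSpecStalk]
  exact h

/-- Equidimensionality of a local ring in terms of generizations. -/
theorem isEquidim_stalk_iff [IsLocallyNoetherian X] (x : X) :
    (∀ p ∈ minimalPrimes (X.presheaf.stalk x),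
        ringKrullDim (X.presheaf.stalk x ⧸ p) = ringKrullDim (X.presheaf.stalk x)) ↔
      ∀ η, η ⤳ x → (∀ z, z ⤳ η → z = η) → cd η x = codim x := by
  let R : Type u := X.presheaf.stalk x
  let c : PrimeSpectrum R → X := X.fromSpecStalk x
  have hc : IsEmbedding c := (X.fromSpecStalk x).isEmbedding
  let m : PrimeSpectrum R := IsLocalRing.closedPoint R
  have hm : c m = x := Scheme.fromSpecStalk_closedPoint
  have hsp : ∀ a b, c a ⤳ c b ↔ a ≤ b := fun a b =>
    hc.isInducing.specializes_iff.trans (PrimeSpectrum.le_iff_specializes a b).symm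
  have hrange : ∀ t, t ⤳ x → t ∈ Set.range c := fun t ht => fromSpecStalk_range_of_specializes ht
  have hcx : ∀ a, c a ⤳ x := fun a => hm ▸ (hsp a m).2 (IsLocalRing.le_maximalIdeal a.isPrime.ne_top)
  have key : ∀ a : PrimeSpectrum R, ringKrullDim (R ⧸ a.asIdeal) = (cd (c a) x : WithBot ℕ∞) := fun a => by
    have h : a ≤ m := IsLocalRing.le_maximalIdeal a.isPrime.ne_top
    have h2 := cd_spec c hc h fun t _ ht => hrange t (hm ▸ ht)
    rw [hm] at h2
    rw [← coe_cd (hcx a), h2,
      ← VarDim.coheight_eq_ringKrullDim_quotient, height_eq_krullDim_Iic, coheight_eq_krullDim_Ici]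
    refine Order.krullDim_eq_of_orderIso ⟨⟨fun t => ⟨⟨t.1, t.2⟩, (IsLocalRing.le_maximalIdeal t.1.isPrime.ne_top : t.1 ≤ m)⟩,
      fun t => ⟨t.1.1, t.1.2⟩, fun _ => rfl, fun _ => rfl⟩, Iff.rfl⟩
  rw [ringKrullDim_stalk x]
  constructor
  · intro h η hη hmax
    obtain ⟨a, rfl⟩ := hrange η hη
    have ha : a.asIdeal ∈ minimalPrimes R := by
      refine ⟨⟨a.isPrime, bot_le⟩, fun J hJ hJa => ?_⟩
      have := hmax (c ⟨J, hJ.1⟩) ((hsp ⟨J, hJ.1⟩ a).2 hJa)
      exact (congrArg PrimeSpectrum.asIdeal (hc.injective this)).ge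
    have := (key a).symm.trans (h _ ha)
    exact_mod_cast this
  · intro h p hp
    haveI := hp.1.1
    rw [key ⟨p, hp.1.1⟩]
    refine congrArg (fun n : ℕ => (n : WithBot ℕ∞)) (h _ (hcx _) fun z hz => ?_)
    obtain ⟨b, rfl⟩ := hrange z (hz.trans (hcx _))
    exact congrArg c (le_antisymm ((hsp _ _).1 hz) (hp.2 ⟨b.isPrime, bot_le⟩ ((hsp _ _).1 hz)))

end Groth.Agent.DimFormula
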