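import Groth.Agent.DimFormula.Open
import Groth.Prelude.Def_EGA43
import Groth.Prelude.Def_EGA4b

/-!
# Equidimensional morphisms and equidimensional local rings
-/

set_option autoImplicit false
set_option linter.style.haveILetI false

open AlgebraicGeometry CategoryTheory Order Topology

namespace Groth.Agent.DimFormula

universe u

theorem isEquidim_iff {X : Scheme.{u}} [IsLocallyNoetherian X] (x : X) :
    EGA4.IsEquidim (X.presheaf.stalk x) ↔ ∀ η, η ⤳ x → (∀ z, z ⤳ η → z = η) → cd η x = codim x :=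
  isEquidim_stalk_iff x

variable {X Y : Scheme.{u}} (f : X ⟶ Y) [LocallyOfFiniteType f] [IsLocallyNoetherian Y]

omit [IsLocallyNoetherian Y] in
theorem equidim_spec {x : X} (h : EGA43.IsEquidimAt f x) {η : X} (hη : η ⤳ x)
    (hmax : ∀ z, z ⤳ η → z = η) :
    (∀ y, y ⤳ f η → y = f η) ∧ FibDim.rd f η = FibDim.rd f x + fb f x := by
  obtain ⟨e, U, hxU, h1, h2⟩ := (FibDim.isEquidimAt_iff f x).1 h
  obtain ⟨z, hz, -, hzm, -, hrd⟩ := exists_fibMax_top f x
  refine ⟨(h1 η (hη.mem_open U.isOpen hxU) hmax).1, ?_⟩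
  rw [← hrd, h2 η (hη.mem_open U.isOpen hxU) (FibDim.fibMax_of_maximal f hmax),
    h2 z (hz.mem_open U.isOpen hxU) hzm]

theorem isEquidimAt_of {x : X} (h : ∀ η, η ⤳ x → (∀ z, z ⤳ η → z = η) →
    (∀ y, y ⤳ f η → y = f η) ∧ FibDim.rd f η = FibDim.rd f x + fb f x) : EGA43.IsEquidimAt f x := by
  haveI := LocallyOfFiniteType.isLocallyNoetherian f
  obtain ⟨W, hxW, hW⟩ := FibDim.exists_nhd_generizing (X := X) (Z := Set.univ) isClosed_univ x
  obtain ⟨W', hxW', hW'⟩ := FibDim.exists_nhd_rd_le f x (FibDim.rd f x + fb f x) (le_of_eq (fibreDimAt_eq_add f x))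
  refine (FibDim.isEquidimAt_iff f x).2 ⟨FibDim.rd f x + fb f x, W ⊓ W', ⟨hxW, hxW'⟩,
    fun η hη hmax => ?_, fun z hz hzm => le_antisymm (hW' z hz.2) ?_⟩
  · obtain ⟨ζ, -, hζx, hζ⟩ := hW η hη.1 trivial
    rw [hmax ζ hζ] at hζx
    exact ⟨(h η hζx hmax).1, hζx.map f.continuous⟩
  · obtain ⟨η, hη, hmax⟩ := FibDim.exists_maximal_generization z
    obtain ⟨ζ, -, hζx, hζ⟩ := hW η (hη.mem_open W.isOpen hz.1 : η ∈ W) trivial
    rw [hmax ζ hζ] at hζx
    rw [← (h η hζx hmax).2]
    have := rd_le_of_specializes' f hη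
    rwa [(fb_eq_zero_iff f z).2 hzm, add_zero] at this

/-- EGA IV 13.3.6: the dimension formula for equidimensional morphisms. -/
theorem formula_of_equidim {x : X} (h : EGA43.IsEquidimAt f x)
    (hY : EGA4.IsEquidim (Y.presheaf.stalk (f x))) (hcat : CAlg.IsUniversallyCatenary (Y.presheaf.stalk (f x))) :
    codim x = codim (f x) + fb f x ∧ EGA4.IsEquidim (X.presheaf.stalk x) := by
  haveI := LocallyOfFiniteType.isLocallyNoetherian f
  have key : ∀ η, η ⤳ x → (∀ z, z ⤳ η → z = η) → cd η x = codim (f x) + fb f x := fun η hη hmax => by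
    obtain ⟨h1, h2⟩ := equidim_spec f h hη hmax
    have h3 := (cd_formula f hη).2 hcat
    have h4 := (isEquidim_iff (f x)).1 hY (f η) (hη.map f.continuous) h1
    omega
  obtain ⟨η, hη, hmax, he⟩ := exists_maximal_cd_eq_codim x
  have hc : codim x = codim (f x) + fb f x := he ▸ key η hη hmax
  exact ⟨hc, (isEquidim_iff x).2 fun η' hη' hmax' => (key η' hη' hmax').trans hc.symm⟩

theorem maximal_of_cd_eq_codim {Z : Scheme.{u}} [IsLocallyNoetherian Z] {η y : Z} (h : η ⤳ y)
    (he : cd η y = codim y) : ∀ z, z ⤳ η → z = η := fun z hz => by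
  have h1 := cd_add_cd_le h hz
  have h2 := cd_le_codim (hz.trans h)
  exact (cd_eq_zero_iff hz).1 (by omega)

/-- EGA IV 13.3.6, converse. -/
theorem equidim_of_formula {x : X} (hX : EGA4.IsEquidim (X.presheaf.stalk x))
    (h : codim (f x) + fb f x ≤ codim x) : EGA43.IsEquidimAt f x := by
  haveI := LocallyOfFiniteType.isLocallyNoetherian f
  refine isEquidimAt_of f fun η hη hmax => ?_
  have h1 := (cd_formula f hη).1
  have h2 := rd_le_of_specializes' f hη
  have h3 := cd_le_codim (hη.map f.continuous)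
  have h4 := (isEquidim_iff x).1 hX η hη hmax
  exact ⟨maximal_of_cd_eq_codim (hη.map f.continuous) (by omega), by omega⟩

/-- EGA IV 14.2.2. -/
theorem equidim_of_isOpenAt {x : X} (hX : EGA4.IsEquidim (X.presheaf.stalk x))
    (h : ∀ z, z ⤳ x → f z = f x → FibDim.FibMax f z → EGA43.IsOpenAt f.base z) :
    EGA43.IsEquidimAt f x := by
  haveI := LocallyOfFiniteType.isLocallyNoetherian f
  obtain ⟨z, hz, hfz, hzm, hle, -⟩ := codim_add_fb_le f x
  refine equidim_of_formula f hX ?_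
  have := codim_le_of_isOpenAt f hzm (h z hz hfz hzm)
  rw [hfz] at this
  omega

end Groth.Agent.DimFormula
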