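import Mathlib.Order.KrullDimension
import Mathlib.Data.ENat.Lattice

/-!
# Heights relative to a lower bound, and saturated chains
-/

set_option autoImplicit false

open Order

namespace Groth.Agent.DimFormula

universe u

variable {α : Type u} [PartialOrder α]

theorem height_add_le_height_apply {q : α} (l : LTSeries ↥(Set.Ici q)) :
    ∀ i : Fin (l.length + 1), height q + (i : ℕ) ≤ height ((l i : α)) := by
  intro i
  induction i using Fin.induction with
  | zero => simpa using height_mono (show q ≤ (l 0 : α) from (l 0).2)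
  | succ i ih =>
    rw [Fin.val_succ, Nat.cast_add, Nat.cast_one, ← add_assoc]
    exact (add_le_add ih le_rfl).trans (height_add_one_le (show (l i.castSucc : α) < (l i.succ : α) from l.step i))

theorem height_add_height_le {q p : α} (h : q ≤ p) :
    height q + height (⟨p, h⟩ : ↥(Set.Ici q)) ≤ height p := by
  rw [height_eq_iSup_last_eq (a := (⟨p, h⟩ : ↥(Set.Ici q))), iSup_subtype']
  haveI : Nonempty {l : LTSeries ↥(Set.Ici q) // l.last = ⟨p, h⟩} := ⟨⟨RelSeries.singleton _ _, rfl⟩⟩
  rw [ENat.add_iSup]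
  refine iSup_le fun l => ?_
  have := height_add_le_height_apply l.1 (Fin.last _)
  rwa [Fin.val_last, show (l.1 (Fin.last _) : α) = p from congrArg Subtype.val l.2] at this

/-- A series of maximal length ending at a point is saturated. -/
theorem saturated_of_length_eq_height (l : LTSeries α) (hl : (l.length : ℕ∞) = height l.last)
    (i : Fin l.length) : l i.castSucc ⋖ l i.succ := by
  refine ⟨l.step i, fun z hz hz' => ?_⟩
  have h1 := length_le_height_last (p := l.insertNth i z hz hz')
  have h2 : (l.insertNth i z hz hz').last = l.last := by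
    show Fin.insertNth (α := fun _ => α) i.castSucc.succ z l.toFun (Fin.last _) = _
    rw [← Fin.succAbove_ne_last_last (a := i.castSucc.succ) (by simp [Fin.ext_iff]; omega),
      Fin.insertNth_apply_succAbove]
    rfl
  rw [h2, ← hl, RelSeries.insertNth_length, Nat.cast_le] at h1
  omega

theorem exists_saturated_series {a : α} {n : ℕ} (hn : height a = n) :
    ∃ l : LTSeries α, l.last = a ∧ l.length = n ∧ (∀ i : Fin l.length, l i.castSucc ⋖ l i.succ) ∧
      height l.head = 0 := by
  obtain ⟨l, hl, hlen⟩ := exists_series_of_height_eq_coe a hn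
  refine ⟨l, hl, hlen, saturated_of_length_eq_height l (by rw [hl, hn, hlen]), ?_⟩
  by_contra h0
  obtain ⟨b, hb⟩ : ∃ b, b < l.head := by
    by_contra h
    push Not at h
    exact h0 (height_eq_zero.2 fun b hb => (hb.eq_or_lt.resolve_right (h b)).ge)
  have := length_le_height_last (p := l.cons b hb)
  rw [RelSeries.last_cons, hl, hn, RelSeries.cons_length, hlen, Nat.cast_le] at this
  omega

/-- In a catenary order with a least element heights add up. -/
theorem height_add_height_eq
    (hcat : ∀ s t : LTSeries α, s.head = t.head → s.last = t.last →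
      (∀ i : Fin s.length, s i.castSucc ⋖ s i.succ) → (∀ i : Fin t.length, t i.castSucc ⋖ t i.succ) →
      s.length = t.length)
    (hmin : ∀ a b : α, height a = 0 → height b = 0 → a = b) {q p : α} (h : q ≤ p) {n : ℕ}
    (hp : height p = n) :
    height q + height (⟨p, h⟩ : ↥(Set.Ici q)) = height p := by
  refine le_antisymm (height_add_height_le h) ?_
  have hle := height_add_height_le h
  rw [hp] at hle
  obtain ⟨a, ha⟩ := ENat.ne_top_iff_exists.1 (ne_top_of_le_ne_top (ENat.coe_ne_top n) (le_self_add.trans hle))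
  obtain ⟨b, hb⟩ := ENat.ne_top_iff_exists.1 (ne_top_of_le_ne_top (ENat.coe_ne_top n) (le_add_self.trans hle))
  obtain ⟨l₁, hl₁, hn₁, hs₁, hh₁⟩ := exists_saturated_series ha.symm
  obtain ⟨l₂, hl₂, hn₂, hs₂, hh₂⟩ := exists_saturated_series hb.symm
  obtain ⟨l₃, hl₃, hn₃, hs₃, hh₃⟩ := exists_saturated_series hp
  let l₂' : LTSeries α := l₂.map Subtype.val fun _ _ h => h
  have hq : l₂.head = ⟨q, le_rfl⟩ := by
    have := height_eq_zero.1 hh₂ (show (⟨q, le_rfl⟩ : ↥(Set.Ici q)) ≤ l₂.head from l₂.head.2)
    exact Subtype.ext (le_antisymm this l₂.head.2)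
  have hsm : l₁.last = l₂'.head := by
    rw [hl₁]; exact (congrArg Subtype.val hq).symm
  have hlen := hcat (l₁.smash l₂' hsm) l₃ (hmin _ _ (by rw [RelSeries.head_smash]; exact hh₁) hh₃)
    (by rw [RelSeries.last_smash, hl₃]; exact congrArg Subtype.val hl₂) ?_ hs₃
  · rw [hp, ← ha, ← hb, ← hn₁, ← hn₂, ← hn₃, ← hlen, ← Nat.cast_add, Nat.cast_le]
    exact le_rfl
  intro i
  refine Fin.addCases (fun j => ?_) (fun j => ?_) i
  · exact (congrArg₂ (· ⋖ ·) (RelSeries.smash_castAdd hsm j) (RelSeries.smash_succ_castAdd hsm j)).mpr (hs₁ j)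
  · exact (congrArg₂ (· ⋖ ·) (RelSeries.smash_natAdd hsm j) (RelSeries.smash_succ_natAdd hsm j)).mpr
      ⟨(hs₂ j).lt, fun z hz hz' => (hs₂ j).2
        (show l₂ j.castSucc < (⟨z, le_trans (l₂ j.castSucc).2 hz.le⟩ : ↥(Set.Ici q)) from hz) hz'⟩

end Groth.Agent.DimFormula
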